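/-
Matrices of finite order prime to the characteristic over an algebraically closed field.
-/
import Mathlib

set_option maxHeartbeats 800000

namespace CfsgLib.SpectrumPowers

open Polynomial Matrix

variable {K : Type*} [Field K] [IsAlgClosed K] {n : ℕ} [NeZero n]

section General

variable {ι : Type*} [Fintype ι] [DecidableEq ι] [Nonempty ι]

/-- A polynomial kills a semisimple matrix exactly when it vanishes at the eigenvalues. -/
theorem aeval_eq_zero_iff' {B : Matrix ι ι K} {L : ℕ} (hL : (L : K) ≠ 0) (hB : B ^ L = 1)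
    (P : K[X]) : aeval B P = 0 ↔ ∀ t ∈ B.charpoly.roots, P.eval t = 0 := by
  classical
  constructor
  · intro h t ht
    rw [mem_roots (Matrix.charpoly_monic B).ne_zero,
      ← Matrix.mem_spectrum_iff_isRoot_charpoly] at ht
    have := spectrum.subset_polynomial_aeval B P ⟨t, ht, rfl⟩
    rw [h, spectrum.zero_eq] at this
    exact this
  · intro h
    have hd : minpoly K B ∣ X ^ L - C 1 := minpoly.dvd K B (by simp [hB])
    have hsep : (minpoly K B).Separable := (separable_X_pow_sub_C (1 : K) hL one_ne_zero).of_dvd hd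
    have hne : minpoly K B ≠ 0 := minpoly.ne_zero (Matrix.isIntegral B)
    have hdvd : minpoly K B ∣ P := by
      by_cases hP : P = 0
      · exact hP ▸ dvd_zero _
      refine (IsAlgClosed.splits _).dvd_of_roots_le_roots hne ?_
      rw [Multiset.le_iff_subset (nodup_roots hsep)]
      intro t ht
      rw [mem_roots hP]
      refine h t ?_
      rw [mem_roots (Matrix.charpoly_monic B).ne_zero]
      exact ((mem_roots hne).mp ht).dvd (Matrix.minpoly_dvd_charpoly B)
    obtain ⟨Q, rfl⟩ := hdvd
    rw [map_mul, minpoly.aeval, zero_mul]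

theorem aeval_eq_aeval {B : Matrix ι ι K} {L : ℕ} (hL : (L : K) ≠ 0) (hB : B ^ L = 1)
    {P Q : K[X]} (h : ∀ t ∈ B.charpoly.roots, P.eval t = Q.eval t) : aeval B P = aeval B Q := by
  rw [← sub_eq_zero, ← map_sub, aeval_eq_zero_iff' hL hB]
  exact fun t ht => by rw [eval_sub, h t ht, sub_self]

theorem eigen_pow {B : Matrix ι ι K} {L : ℕ} (hL : (L : K) ≠ 0) (hB : B ^ L = 1) {t : K}
    (ht : t ∈ B.charpoly.roots) : t ^ L = 1 := by
  have := (aeval_eq_zero_iff' hL hB (X ^ L - 1)).mp (by simp [hB]) t ht
  simpa [sub_eq_zero] using this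

end General

/-- The determinant of a combination with an idempotent. -/
theorem exists_rank {e : Matrix (Fin n) (Fin n) K} (he : e * e = e) :
    ∃ k : ℕ, ∀ t : K, (1 + (t - 1) • e).det = t ^ k := by
  classical
  have hroot : ∀ s ∈ e.charpoly.roots, s = 0 ∨ s = 1 := by
    intro s hs
    rw [mem_roots (Matrix.charpoly_monic e).ne_zero, ← Matrix.mem_spectrum_iff_isRoot_charpoly] at hs
    have := spectrum.subset_polynomial_aeval e (X ^ 2 - X) ⟨s, hs, rfl⟩
    simp [pow_two, he] at this
    exact (mul_eq_zero.mp (show s * (s - 1) = 0 by linear_combination this)).imp_right sub_eq_zero.mp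
  set R := e.charpoly.roots with hR
  set k := R.count 1
  have hcard : Multiset.card R = n := by
    rw [hR, IsAlgClosed.card_roots_eq_natDegree, Matrix.charpoly_natDegree_eq_dim, Fintype.card_fin]
  refine ⟨k, fun t => ?_⟩
  by_cases ht : t = 1
  · simp [ht]
  have h1 : (1 : K) - t ≠ 0 := sub_ne_zero.mpr (Ne.symm ht)
  have hM : 1 + (t - 1) • e = (1 - t) • (Matrix.scalar (Fin n) ((1 - t)⁻¹) - e) := by
    rw [smul_sub, Matrix.scalar_apply, ← Matrix.smul_one_eq_diagonal, smul_smul, mul_inv_cancel₀ h1,
      one_smul, sub_eq_add_neg (1 : Matrix (Fin n) (Fin n) K), ← neg_smul, neg_sub]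
  rw [hM, det_smul, Fintype.card_fin, ← Matrix.eval_charpoly,
    (IsAlgClosed.splits e.charpoly).eq_prod_roots_of_monic (Matrix.charpoly_monic e), eval_multiset_prod,
    Multiset.map_map]
  have key : ∀ R : Multiset K, (∀ s ∈ R, s = 0 ∨ s = 1) →
      (1 - t) ^ Multiset.card R * (R.map (eval ((1 - t)⁻¹) ∘ fun a => X - C a)).prod = t ^ R.count 1 := by
    intro R
    induction R using Multiset.induction with
    | empty => simp
    | cons s R ih =>
      intro h
      rw [Multiset.card_cons, Multiset.map_cons, Multiset.prod_cons, pow_succ,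
        show ∀ a b c d : K, a * b * (c * d) = b * c * (a * d) from fun a b c d => by ring,
        ih fun x hx => h x (Multiset.mem_cons_of_mem hx), Function.comp_apply, eval_sub, eval_X, eval_C]
      rcases h s (Multiset.mem_cons_self _ _) with rfl | rfl
      · rw [sub_zero, mul_inv_cancel₀ h1, one_mul, Multiset.count_cons_of_ne one_ne_zero]
      · rw [mul_sub, mul_inv_cancel₀ h1, mul_one, sub_sub_cancel, Multiset.count_cons_self, pow_succ']
  have := key R hroot
  rwa [hcard] at this

omit [IsAlgClosed K] [NeZero n] in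
/-- Transposition and a field map commute with evaluation of polynomials. -/
theorem aeval_transpose_map (f : K →+* K) (B : Matrix (Fin n) (Fin n) K) (P : K[X]) :
    ((aeval B P).map f)ᵀ = aeval ((B.map f)ᵀ) (P.map f) := by
  induction P using Polynomial.induction_on' with
  | add P Q hP hQ => rw [map_add, Matrix.map_add f (map_add f), transpose_add, hP, hQ, Polynomial.map_add, map_add]
  | monomial i a =>
    rw [aeval_monomial, Polynomial.map_monomial, aeval_monomial, ← transpose_pow,
      show (B.map f) ^ i = (B ^ i).map f from (Matrix.map_pow B f i).symm]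
    simp only [Algebra.algebraMap_eq_smul_one, smul_mul_assoc, one_mul]
    ext x y
    simp

end CfsgLib.SpectrumPowers
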