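/-
Orders of elements of a special unitary group without invariant orthogonal decomposition.
-/
import Cfsg.Agent.Lib.SpectrumPowers.Eigen
import Cfsg.Agent.Lib.UnitaryBasic
import Cfsg.Agent.Lib.Unipotent
import Cfsg.Prelude.Def_Classical

set_option maxHeartbeats 1000000

namespace CfsgLib.SpectrumPowers

open Polynomial Matrix

/-- `∑_{j<d} (-q)^j`. -/
def alt (q d : ℕ) : ℤ := ∑ j ∈ Finset.range d, (-(q : ℤ)) ^ j

/-- The order of the central quotient of the maximal anisotropic torus. -/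
def uSinger (q n : ℕ) : ℕ := (alt q n).natAbs / Nat.gcd (alt q n).natAbs (q + 1)

theorem natAbs_dvd_uSinger_mul (q n : ℕ) : (alt q n).natAbs ∣ uSinger q n * (q + 1) := by
  obtain ⟨e, he⟩ := Nat.gcd_dvd_right (alt q n).natAbs (q + 1)
  refine ⟨e, ?_⟩
  conv_lhs => rw [he]
  rw [uSinger, ← mul_assoc, Nat.div_mul_cancel (Nat.gcd_dvd_left _ _)]

theorem uSinger_dvd {q n m : ℕ} (h : (alt q n).natAbs ∣ m * (q + 1)) : uSinger q n ∣ m := by
  have hd : 0 < Nat.gcd (alt q n).natAbs (q + 1) := Nat.gcd_pos_of_pos_right _ (by omega)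
  have hcop : Nat.Coprime (uSinger q n) ((q + 1) / Nat.gcd (alt q n).natAbs (q + 1)) :=
    Nat.coprime_div_gcd_div_gcd hd
  refine hcop.dvd_of_dvd_mul_right (Nat.dvd_of_mul_dvd_mul_right hd ?_)
  rw [uSinger, Nat.div_mul_cancel (Nat.gcd_dvd_left _ _), mul_assoc,
    Nat.div_mul_cancel (Nat.gcd_dvd_right _ _)]
  exact h

variable {F : Type*} [Field F] [Fintype F] {n q : ℕ}

/-- Membership in the special unitary group as a matrix equation. -/
theorem mem_SU_iff {s : F →+* F} (hs : ∀ x, s x = x ^ q) (g : Matrix.SpecialLinearGroup (Fin n) F) :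
    g ∈ Cfsg.SU n F q ↔ (g.1.map s)ᵀ * g.1 = 1 := by
  have e : ∀ u v : Fin n → F, Cfsg.hermForm n F q u v = u ⬝ᵥ (s ∘ v) := fun u v => by
    simp [Cfsg.hermForm, dotProduct, hs]
  have key : ∀ u v, Cfsg.hermForm n F q (g.1 *ᵥ u) (g.1 *ᵥ v) = u ⬝ᵥ ((g.1ᵀ * g.1.map s) *ᵥ (s ∘ v)) :=
    fun u v => by
    rw [e, show s ∘ (g.1 *ᵥ v) = g.1.map s *ᵥ (s ∘ v) from funext fun i => RingHom.map_mulVec s _ _ i,
      ← mulVec_mulVec, dotProduct_mulVec u, vecMul_transpose]
  have hiff : g.1ᵀ * g.1.map s = 1 ↔ (g.1.map s)ᵀ * g.1 = 1 := by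
    constructor <;> intro h <;> have h2 := congrArg Matrix.transpose h <;> simpa [transpose_mul] using h2
  rw [← hiff]
  constructor
  · intro hg
    refine Matrix.ext fun i j => ?_
    have := hg (Pi.single i 1) (Pi.single j 1)
    change Cfsg.hermForm n F q (g.1 *ᵥ Pi.single i 1) (g.1 *ᵥ Pi.single j 1) = _ at this
    rw [key, e, show s ∘ Pi.single j (1 : F) = Pi.single j 1 from funext fun x => by
      simp [Pi.single_apply, apply_ite s]] at this
    simpa [single_dotProduct, Matrix.one_apply, Pi.single_apply, eq_comm] using this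
  · intro h u v
    show Cfsg.hermForm n F q (g.1 *ᵥ u) (g.1 *ᵥ v) = _
    rw [key, h, one_mulVec, e]

theorem exists_prime_pow (hF : Fintype.card F = q ^ 2) (p : ℕ) [Fact p.Prime] [CharP F p] :
    ∃ a : ℕ, q = p ^ a ∧ 1 ≤ a := by
  obtain ⟨f, -, hf⟩ := FiniteField.card F p
  rw [hF] at hf
  obtain ⟨a, -, ha⟩ := (Nat.dvd_prime_pow (Fact.out : p.Prime)).mp ⟨q, by rw [← hf, sq]⟩
  refine ⟨a, ha, ?_⟩
  by_contra h0
  obtain rfl : a = 0 := by omega
  rw [ha, pow_zero, one_pow] at hF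
  exact absurd hF (by have := Fintype.one_lt_card (α := F); omega)

theorem mem_of_pow_eq {L : Type*} [Field L] [Algebra F L] (z : L) (hz : z ^ Fintype.card F = z) :
    ∃ t : F, algebraMap F L t = z := by
  classical
  let P : Polynomial L := X ^ Fintype.card F - X
  have hdeg : P.natDegree = Fintype.card F := FiniteField.X_pow_card_sub_X_natDegree_eq L Fintype.one_lt_card
  have hne : P ≠ 0 := FiniteField.X_pow_card_sub_X_ne_zero L Fintype.one_lt_card
  set s : Finset L := Finset.univ.image (algebraMap F L) with hs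
  have hcard : s.card = Fintype.card F := Finset.card_image_of_injective _ (algebraMap F L).injective
  have hsub : s ⊆ P.roots.toFinset := by
    intro x hx
    obtain ⟨t, -, rfl⟩ := Finset.mem_image.mp hx
    rw [Multiset.mem_toFinset, mem_roots hne]
    simp [P, ← map_pow, FiniteField.pow_card]
  have heq : s = P.roots.toFinset := Finset.eq_of_subset_of_card_le hsub (by
    rw [hcard, ← hdeg]; exact (Multiset.toFinset_card_le _).trans (Polynomial.card_roots' P))
  have hzs : z ∈ s := by rw [heq, Multiset.mem_toFinset, mem_roots hne]; simp [P, hz]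
  obtain ⟨t, -, ht⟩ := Finset.mem_image.mp hzs
  exact ⟨t, ht⟩

/-- The conjugating inverse map on units. -/
theorem alt_identity {G : Type*} [CommGroup G] (u : G) {Q : ℤ} {d : ℕ} (h : u ^ (Q ^ d) = u) (k : ℕ) :
    u ^ (∑ i ∈ Finset.range (k * d), Q ^ i) = (u ^ (∑ i ∈ Finset.range d, Q ^ i)) ^ k := by
  induction k with
  | zero => simp
  | succ k ih =>
    have hk : ∀ j : ℕ, u ^ (Q ^ (j * d)) = u := by
      intro j
      induction j with
      | zero => simp
      | succ j ihj => rw [Nat.succ_mul, pow_add, _root_.zpow_mul, ihj, h]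
    rw [Nat.succ_mul, Finset.sum_range_add, _root_.zpow_add, ih, pow_succ]
    congr 1
    rw [show ∑ i ∈ Finset.range d, Q ^ (k * d + i) = Q ^ (k * d) * ∑ i ∈ Finset.range d, Q ^ i by
      rw [Finset.mul_sum]; exact Finset.sum_congr rfl fun i _ => pow_add Q _ _, _root_.zpow_mul, hk]

theorem scalar_of_indecomposable (hF : Fintype.card F = q ^ 2) (p : ℕ) [Fact p.Prime] [CharP F p] (hn : 0 < n)
    (A : Cfsg.SU n F q) {s : F →+* F} (hs : ∀ x, s x = x ^ q)
    (hind : ∀ e : Matrix (Fin n) (Fin n) F, e * e = e → Commute e A.1.1 → (e.map s)ᵀ = e → e = 0 ∨ e = 1) :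
    ∃ t : F, A.1.1 ^ (p ^ Nat.clog p n * uSinger q n) = Matrix.scalar (Fin n) t := by
  classical
  have hp : p.Prime := Fact.out
  haveI : NeZero n := ⟨hn.ne'⟩
  haveI : Nonempty (Fin n) := ⟨⟨0, hn⟩⟩
  obtain ⟨a, hqa, ha⟩ := exists_prime_pow hF p
  set I := Nat.clog p n
  obtain ⟨i, L, hL, hord⟩ := Nat.exists_eq_pow_mul_and_not_dvd (orderOf_pos A.1).ne' p hp.ne_one
  set B := A.1.1 ^ p ^ I with hB
  have hBL : B ^ L = 1 := by
    have h1 : (A.1.1 ^ L) ^ p ^ i = 1 := by
      rw [← pow_mul, mul_comm, ← hord, ← Matrix.SpecialLinearGroup.coe_pow, pow_orderOf_eq_one,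
        Matrix.SpecialLinearGroup.coe_one]
    have h2 : IsNilpotent (A.1.1 ^ L - 1) :=
      ⟨p ^ i, by rw [CfsgLib.Unipotent.sub_one_pow_char_pow p hn, h1, sub_self]⟩
    have h3 : (A.1.1 ^ L - 1) ^ p ^ I = 0 := pow_eq_zero_of_le (Nat.le_pow_clog hp.one_lt n)
      (CfsgLib.Unipotent.pow_eq_zero_of_isNilpotent h2)
    rw [CfsgLib.Unipotent.sub_one_pow_char_pow p hn, sub_eq_zero, ← pow_mul, mul_comm, pow_mul] at h3
    exact h3
  -- the algebraic closure
  let Ω := AlgebraicClosure F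
  set ι := algebraMap F Ω with hι
  haveI : CharP Ω p := charP_of_injective_algebraMap ι.injective p
  set fr : Ω →+* Ω := iterateFrobenius Ω p a with hfr
  have hfrx : ∀ x : Ω, fr x = x ^ q := fun x => by rw [hfr, iterateFrobenius_def, hqa]
  have hfrι : ∀ M : Matrix (Fin n) (Fin n) F, (M.map s).map ι = (M.map ι).map fr := fun M => by
    ext i j; simp [hs, hfrx]
  set Bb := B.map ι with hBb
  have hLΩ : (L : Ω) ≠ 0 := by rwa [Ne, CharP.cast_eq_zero_iff Ω p]
  have hL0 : 0 < L := Nat.pos_of_ne_zero fun h => hL (h ▸ dvd_zero p)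
  have hBbL : Bb ^ L = 1 := by rw [hBb, ← Matrix.map_pow, hBL, Matrix.map_one ι (map_zero ι) (map_one ι)]
  have hst : (Bb.map fr)ᵀ = Bb ^ (L - 1) := by
    have h1 : (B.map s)ᵀ * B = 1 := by
      have hA := (mem_SU_iff hs (A.1 ^ p ^ I)).mp ((Cfsg.SU n F q).pow_mem A.2 _)
      rwa [Matrix.SpecialLinearGroup.coe_pow] at hA
    have h2 : (Bb.map fr)ᵀ * Bb = 1 := by
      rw [hBb, ← hfrι, ← Matrix.transpose_map, ← Matrix.map_mul, h1, Matrix.map_one ι (map_zero ι) (map_one ι)]
    calc (Bb.map fr)ᵀ = (Bb.map fr)ᵀ * (Bb * Bb ^ (L - 1)) := by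
          rw [← pow_succ', Nat.sub_add_cancel hL0, hBbL, mul_one]
      _ = _ := by rw [← mul_assoc, h2, one_mul]
  set Λ := Bb.charpoly.roots.toFinset with hΛ
  have memΛ : ∀ {t}, t ∈ Λ ↔ t ∈ Bb.charpoly.roots := fun {t} => Multiset.mem_toFinset
  have hne : Λ.Nonempty := by
    obtain ⟨t, ht⟩ := IsAlgClosed.exists_root Bb.charpoly (by
      rw [Matrix.charpoly_degree_eq_dim, Fintype.card_fin]; exact_mod_cast hn.ne')
    exact ⟨t, memΛ.mpr ((mem_roots (Matrix.charpoly_monic _).ne_zero).mpr ht)⟩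
  have hroot0 : ∀ t ∈ Λ, t ≠ 0 := fun t ht h => by
    have := eigen_pow hLΩ hBbL (memΛ.mp ht)
    rw [h, zero_pow hL0.ne'] at this
    exact zero_ne_one this
  have hinvL : ∀ t ∈ Λ, t ^ (L - 1) = t⁻¹ := fun t ht => by
    refine eq_inv_of_mul_eq_one_left ?_
    rw [← pow_succ, Nat.sub_add_cancel hL0]
    exact eigen_pow hLΩ hBbL (memΛ.mp ht)
  let ψ : Ω → Ω := fun x => (x ^ q)⁻¹
  have hψinj : Function.Injective ψ := fun x y h => fr.injective (by rw [hfrx, hfrx]; exact inv_injective h)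
  have hadj : ∀ P : Polynomial Ω, ((aeval Bb P).map fr)ᵀ = aeval Bb ((P.map fr).comp (X ^ (L - 1))) := fun P => by
    rw [aeval_transpose_map, hst, aeval_comp, map_pow, aeval_X]
  have himg : Λ.image ψ = Λ := by
    refine (Finset.eq_of_subset_of_card_le ?_ Finset.card_image_le).symm
    intro μ hμ
    have h0 : aeval Bb (∏ t ∈ Λ, (X - C t)) = 0 :=
      (aeval_eq_zero_iff' hLΩ hBbL _).mpr fun t ht => by
        rw [eval_prod]; exact Finset.prod_eq_zero (memΛ.mpr ht) (by simp)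
    have h1 : aeval Bb (((∏ t ∈ Λ, (X - C t)).map fr).comp (X ^ (L - 1))) = 0 := by
      rw [← hadj, h0, Matrix.map_zero fr (map_zero fr), transpose_zero]
    have h2 := (aeval_eq_zero_iff' hLΩ hBbL _).mp h1 μ (memΛ.mp hμ)
    rw [eval_comp, eval_pow, eval_X, Polynomial.map_prod, eval_prod, Finset.prod_eq_zero_iff] at h2
    obtain ⟨t, ht, h3⟩ := h2
    refine Finset.mem_image.mpr ⟨t, ht, ?_⟩
    simp only [Polynomial.map_sub, map_X, map_C, eval_sub, eval_X, eval_C, sub_eq_zero, hfrx, hinvL μ hμ] at h3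
    show (t ^ q)⁻¹ = μ
    rw [← h3, inv_inv]
  have hψΛ : ∀ t ∈ Λ, ψ t ∈ Λ := fun t ht => himg ▸ Finset.mem_image_of_mem ψ ht
  -- projections
  let proj : (Ω → Ω) → Polynomial Ω := fun f => Lagrange.interpolate Λ id f
  have hproj : ∀ f : Ω → Ω, ∀ t ∈ Λ, (proj f).eval t = f t := fun f t ht =>
    Lagrange.eval_interpolate_at_node f (Set.injOn_id _) ht
  have hadjP : ∀ f g : Ω → Ω, (∀ t ∈ Λ, g (ψ t) = f t ^ q) →
      ((aeval Bb (proj f)).map fr)ᵀ = aeval Bb (proj g) := by
    intro f g hfg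
    rw [hadj]
    refine aeval_eq_aeval hLΩ hBbL fun μ hμ => ?_
    obtain ⟨t, ht, rfl⟩ := Finset.mem_image.mp (himg.symm ▸ memΛ.mpr hμ : μ ∈ Λ.image ψ)
    rw [eval_comp, eval_pow, eval_X, hinvL _ (memΛ.mpr hμ), hproj g _ (memΛ.mpr hμ), hfg t ht]
    show eval (((t ^ q)⁻¹)⁻¹) ((proj f).map fr) = _
    rw [inv_inv, ← hfrx, eval_map, eval₂_hom, hproj f t ht, hfrx]
  obtain ⟨t0, ht0⟩ := hne
  have horb : ∀ μ ∈ Λ, ∃ j : ℕ, ψ^[j] t0 = μ := by
    set f : Ω → Ω := fun μ => if ∃ j : ℕ, ψ^[j] t0 = μ then 1 else 0 with hf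
    have hper : ∃ d, 0 < d ∧ ψ^[d] t0 = t0 := by
      have hmem : ∀ j, ψ^[j] t0 ∈ Λ := fun j => by
        induction j with
        | zero => exact ht0
        | succ j ih => rw [Function.iterate_succ_apply']; exact hψΛ _ ih
      obtain ⟨x, y, hxy, h⟩ := Finite.exists_ne_map_eq_of_infinite fun j : ℕ => (⟨ψ^[j] t0, hmem j⟩ : Λ)
      have h' : ψ^[x] t0 = ψ^[y] t0 := congrArg Subtype.val h
      rcases lt_or_gt_of_ne hxy with hlt | hlt
      · exact ⟨y - x, by omega, hψinj.iterate x (by rw [← Function.iterate_add_apply, Nat.add_sub_cancel' hlt.le, h'])⟩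
      · exact ⟨x - y, by omega, hψinj.iterate y (by rw [← Function.iterate_add_apply, Nat.add_sub_cancel' hlt.le, h'])⟩
    obtain ⟨d, hd, hper⟩ := hper
    have hiff : ∀ t, (∃ j, ψ^[j] t0 = ψ t) ↔ ∃ j, ψ^[j] t0 = t := by
      intro t
      constructor
      · rintro ⟨_ | j, hj⟩
        · refine ⟨d - 1, hψinj ?_⟩
          rw [← Function.iterate_succ_apply' ψ, show (d - 1).succ = d by omega, hper]
          exact hj
        · exact ⟨j, hψinj (by rw [← Function.iterate_succ_apply' ψ]; exact hj)⟩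
      · rintro ⟨j, hj⟩
        exact ⟨j + 1, by rw [Function.iterate_succ_apply', hj]⟩
    have hff : ∀ t ∈ Λ, f (ψ t) = f t ^ q := fun t _ => by
      have hq0 : q ≠ 0 := by rw [hqa]; exact pow_ne_zero _ hp.ne_zero
      simp only [hf, hiff t]
      split_ifs <;> simp [hq0]
    set eO := aeval Bb (proj f) with heO
    have hfix : (eO.map fr)ᵀ = eO := hadjP f f hff
    have hrat : ∀ i j, ∃ t : F, ι t = eO i j := fun i j => by
      refine mem_of_pow_eq _ ?_
      have h1 := congrArg (fun M : Matrix (Fin n) (Fin n) Ω => M i j) hfix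
      have h2 := congrArg (fun M : Matrix (Fin n) (Fin n) Ω => M j i) hfix
      simp only [transpose_apply, map_apply, hfrx] at h1 h2
      rw [hF, sq, pow_mul, h2, h1]
    choose e0 he0 using hrat
    set e : Matrix (Fin n) (Fin n) F := Matrix.of e0
    have hee : e.map ι = eO := by ext i j; exact he0 i j
    have hinj : Function.Injective fun M : Matrix (Fin n) (Fin n) F => M.map ι := Matrix.map_injective ι.injective
    have hid : e * e = e := hinj (by
      show (e * e).map ι = e.map ι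
      rw [Matrix.map_mul, hee, heO, ← map_mul]
      exact aeval_eq_aeval hLΩ hBbL fun t ht => by
        rw [eval_mul, hproj f t (memΛ.mpr ht)]; simp only [hf]; split_ifs <;> simp)
    have hcom : Commute e A.1.1 := hinj (by
      show (e * A.1.1).map ι = (A.1.1 * e).map ι
      rw [Matrix.map_mul, Matrix.map_mul, hee, heO]
      refine (Algebra.commute_of_mem_adjoin_singleton_of_commute (aeval_mem_adjoin_singleton Ω Bb) ?_).eq.symm
      rw [hBb, hB, Matrix.map_pow]
      exact (Commute.refl (A.1.1.map ι)).pow_right _)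
    have hsa : (e.map s)ᵀ = e := hinj (by
      show ((e.map s)ᵀ).map ι = e.map ι
      rw [Matrix.transpose_map, hfrι, hee, hfix])
    rcases hind e hid hcom hsa with h | h
    · exfalso
      have h1 : aeval Bb (proj f) = 0 := by rw [← heO, ← hee, h, Matrix.map_zero ι (map_zero ι)]
      have := (aeval_eq_zero_iff' hLΩ hBbL _).mp h1 t0 (memΛ.mp ht0)
      rw [hproj f t0 ht0] at this
      simp only [hf, if_pos (⟨0, rfl⟩ : ∃ j, ψ^[j] t0 = t0)] at this
      exact one_ne_zero this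
    · intro μ hμ
      have h1 : aeval Bb (proj f) = aeval Bb (1 : Polynomial Ω) := by
        rw [← heO, ← hee, h, Matrix.map_one ι (map_zero ι) (map_one ι), map_one]
      have := (aeval_eq_zero_iff' hLΩ hBbL (proj f - 1)).mp (by rw [map_sub, h1, sub_self]) μ (memΛ.mp hμ)
      rw [eval_sub, hproj f μ hμ, eval_one, sub_eq_zero] at this
      by_contra hno
      simp only [hf, if_neg hno] at this
      exact zero_ne_one this
  -- the ranks
  let P1 : Ω → Polynomial Ω := fun t => proj fun μ => if μ = t then 1 else 0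
  have hidem : ∀ t, aeval Bb (P1 t) * aeval Bb (P1 t) = aeval Bb (P1 t) := fun t => by
    rw [← map_mul]
    exact aeval_eq_aeval hLΩ hBbL fun μ hμ => by rw [eval_mul, hproj _ μ (memΛ.mpr hμ)]; split_ifs <;> simp
  obtain ⟨k, hk⟩ := exists_rank (hidem t0)
  have hrank : ∀ j : ℕ, ∀ t : Ω, (1 + (t - 1) • aeval Bb (P1 (ψ^[j] t0))).det = t ^ k := by
    intro j
    induction j with
    | zero => exact hk
    | succ j ih =>
      intro t
      have hq0 : q ≠ 0 := by rw [hqa]; exact pow_ne_zero _ hp.ne_zero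
      obtain ⟨t', rfl⟩ := IsAlgClosed.exists_pow_nat_eq t (Nat.pos_of_ne_zero hq0)
      rw [Function.iterate_succ_apply', ← hadjP (fun μ => if μ = ψ^[j] t0 then 1 else 0)
        (fun μ => if μ = ψ (ψ^[j] t0) then 1 else 0) fun μ _ => by
          simp only [hψinj.eq_iff]; split_ifs <;> simp [hq0]]
      have e1 : 1 + (t' ^ q - 1) • ((aeval Bb (P1 (ψ^[j] t0))).map fr)ᵀ =
          ((1 + (t' - 1) • aeval Bb (P1 (ψ^[j] t0))).map fr)ᵀ := by
        ext x y
        simp only [Matrix.add_apply, Matrix.smul_apply, transpose_apply, map_apply, smul_eq_mul, map_add,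
          map_mul, map_sub, map_one]
        rw [hfrx t']
        simp [Matrix.one_apply, apply_ite fr, eq_comm]
      rw [e1, det_transpose, show ∀ M : Matrix (Fin n) (Fin n) Ω, M.map fr = fr.mapMatrix M from fun M => rfl,
        ← RingHom.map_det, ih t', hfrx, ← pow_mul, ← pow_mul, mul_comm]
  have hrankΛ : ∀ μ ∈ Λ, ∀ t : Ω, (1 + (t - 1) • aeval Bb (P1 μ)).det = t ^ k := fun μ hμ => by
    obtain ⟨j, rfl⟩ := horb μ hμ
    exact hrank j
  have hdet : ∀ w : Ω → Ω, (aeval Bb (∏ μ ∈ Λ, (1 + C (w μ - 1) * P1 μ))).det = ∏ μ ∈ Λ, w μ ^ k := by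
    intro w
    rw [show (aeval Bb (∏ μ ∈ Λ, (1 + C (w μ - 1) * P1 μ))).det =
      ((Matrix.detMonoidHom).comp (aeval Bb).toRingHom.toMonoidHom) (∏ μ ∈ Λ, (1 + C (w μ - 1) * P1 μ)) from rfl,
      map_prod]
    refine Finset.prod_congr rfl fun μ hμ => ?_
    show (aeval Bb (1 + C (w μ - 1) * P1 μ)).det = _
    rw [map_add, map_one, map_mul, aeval_C, ← Algebra.smul_def]
    exact hrankΛ μ hμ (w μ)
  have hcomb : ∀ (w : Ω → Ω) (Q : Polynomial Ω), (∀ μ ∈ Λ, Q.eval μ = w μ) →
      aeval Bb (∏ μ ∈ Λ, (1 + C (w μ - 1) * P1 μ)) = aeval Bb Q := by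
    intro w Q hQ
    refine aeval_eq_aeval hLΩ hBbL fun μ hμ => ?_
    rw [hQ μ (memΛ.mpr hμ), eval_prod, Finset.prod_eq_single μ]
    · rw [eval_add, eval_one, eval_mul, eval_C, hproj _ μ (memΛ.mpr hμ)]; simp
    · intro b hb hne'
      rw [eval_add, eval_one, eval_mul, eval_C, hproj _ μ (memΛ.mpr hμ)]
      simp [Ne.symm hne']
    · intro h; exact absurd (memΛ.mpr hμ) h
  have hkn : k * Λ.card = n := by
    have h : ∀ t : Ω, t ^ (k * Λ.card) = t ^ n := fun t => by
      have h1 := hdet fun _ => t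
      rw [hcomb (fun _ => t) (C t) (fun μ _ => eval_C), aeval_C, Algebra.algebraMap_eq_smul_one, det_smul,
        det_one, mul_one, Fintype.card_fin, Finset.prod_const, ← pow_mul] at h1
      exact h1.symm
    have := Polynomial.funext (p := (X : Polynomial Ω) ^ (k * Λ.card)) (q := X ^ n) (by simpa using h)
    simpa using congrArg natDegree this
  have hprod : ∏ μ ∈ Λ, μ ^ k = 1 := by
    have h1 := hdet id
    rw [hcomb id X (fun μ _ => eval_X), aeval_X] at h1
    rw [show ∏ μ ∈ Λ, μ ^ k = ∏ μ ∈ Λ, id μ ^ k from rfl, ← h1, hBb,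
      show ∀ M : Matrix (Fin n) (Fin n) F, M.map ι = ι.mapMatrix M from fun M => rfl, ← RingHom.map_det, hB,
      Matrix.det_pow, A.1.2, one_pow, map_one]
  -- the period
  set u : Ωˣ := Units.mk0 t0 (hroot0 t0 ht0) with hu
  have hiter : ∀ j : ℕ, ψ^[j] t0 = ((u ^ ((-(q : ℤ)) ^ j) : Ωˣ) : Ω) := by
    intro j
    induction j with
    | zero => simp [hu]
    | succ j ih =>
      rw [Function.iterate_succ_apply', ih]
      show ((((u ^ ((-(q : ℤ)) ^ j) : Ωˣ) : Ω)) ^ q)⁻¹ = _
      rw [← Units.val_pow_eq_pow_val, ← Units.val_inv_eq_inv_val, ← zpow_natCast, ← _root_.zpow_mul, ← _root_.zpow_neg]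
      congr 2
      ring
  set d := Λ.card
  have hmem : ∀ j, ψ^[j] t0 ∈ Λ := fun j => by
    induction j with
    | zero => exact ht0
    | succ j ih => rw [Function.iterate_succ_apply']; exact hψΛ _ ih
  have hP : Function.IsPeriodicPt ψ (Function.minimalPeriod ψ t0) t0 := Function.isPeriodicPt_minimalPeriod ψ t0
  have hpos : 0 < Function.minimalPeriod ψ t0 := by
    refine Function.minimalPeriod_pos_of_mem_periodicPts ?_
    obtain ⟨x, y, hxy, h⟩ := Finite.exists_ne_map_eq_of_infinite fun j : ℕ => (⟨ψ^[j] t0, hmem j⟩ : Λ)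
    have h' : ψ^[x] t0 = ψ^[y] t0 := congrArg Subtype.val h
    rcases lt_or_gt_of_ne hxy with hlt | hlt
    · exact ⟨y - x, by omega, hψinj.iterate x (by rw [← Function.iterate_add_apply, Nat.add_sub_cancel' hlt.le, h'])⟩
    · exact ⟨x - y, by omega, hψinj.iterate y (by rw [← Function.iterate_add_apply, Nat.add_sub_cancel' hlt.le, h'])⟩
  set d' := Function.minimalPeriod ψ t0
  have himg2 : (Finset.range d').image (fun j => ψ^[j] t0) = Λ := by
    refine Finset.Subset.antisymm (fun μ hμ => ?_) fun μ hμ => ?_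
    · obtain ⟨j, -, rfl⟩ := Finset.mem_image.mp hμ; exact hmem j
    · obtain ⟨j, rfl⟩ := horb μ hμ
      exact Finset.mem_image.mpr ⟨j % d', Finset.mem_range.mpr (Nat.mod_lt _ hpos), Function.iterate_mod_minimalPeriod_eq⟩
  have hinjOn : Set.InjOn (fun j => ψ^[j] t0) (Finset.range d') := fun x hx y hy h =>
    Function.iterate_injOn_Iio_minimalPeriod (by simpa using hx) (by simpa using hy) h
  have hdd : d = d' := by rw [show d = Λ.card from rfl, ← himg2, Finset.card_image_of_injOn hinjOn, Finset.card_range]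
  have hud : u ^ ((-(q : ℤ)) ^ d') = u := by
    apply Units.ext
    rw [← hiter, hP.eq]
    rfl
  have husd : (u ^ alt q d') ^ k = 1 := by
    apply Units.ext
    rw [Units.val_pow_eq_pow_val, Units.val_one, ← hprod, Finset.prod_pow, ← himg2, Finset.prod_image hinjOn,
      Finset.prod_congr rfl fun j _ => hiter j, ← Units.coe_prod, alt]
    congr 2
    induction Finset.range d' using Finset.induction with
    | empty => simp
    | insert j S hj ih => rw [Finset.sum_insert hj, Finset.prod_insert hj, _root_.zpow_add, ih]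
  have hus : u ^ alt q n = 1 := by
    rw [← hkn, hdd, alt, alt_identity u hud k]; exact husd
  set c := uSinger q n
  have hy : (u ^ c) ^ (q + 1) = 1 := by
    have h1 : u ^ (alt q n).natAbs = 1 := by
      rw [← zpow_natCast]
      rcases Int.natAbs_eq (alt q n) with h | h
      · rwa [← h]
      · rw [show ((alt q n).natAbs : ℤ) = -alt q n by omega, _root_.zpow_neg, hus, inv_one]
    obtain ⟨e, he⟩ := natAbs_dvd_uSinger_mul q n
    rw [← pow_mul, he, pow_mul, h1, one_pow]
  have hy' : t0 ^ c * (t0 ^ c) ^ q = 1 := by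
    have := congrArg Units.val hy
    rw [← pow_succ']
    simpa [hu] using this
  have hall : ∀ j, (ψ^[j] t0) ^ c = t0 ^ c := by
    intro j
    induction j with
    | zero => rfl
    | succ j ih =>
      rw [Function.iterate_succ_apply']
      show (((ψ^[j] t0) ^ q)⁻¹) ^ c = _
      rw [inv_pow, ← pow_mul, mul_comm, pow_mul, ih]
      exact inv_eq_of_mul_eq_one_left hy'
  obtain ⟨y, hyF⟩ := mem_of_pow_eq (F := F) (t0 ^ c) (by
    rw [hF, sq, pow_mul]
    have e : (t0 ^ c) ^ q = (t0 ^ c)⁻¹ := eq_inv_of_mul_eq_one_right hy'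
    rw [e, inv_pow, e, inv_inv])
  refine ⟨y, Matrix.map_injective ι.injective ?_⟩
  have h1 : aeval Bb (X ^ c : Polynomial Ω) = aeval Bb (C (t0 ^ c)) := aeval_eq_aeval hLΩ hBbL fun μ hμ => by
    obtain ⟨j, rfl⟩ := horb μ (memΛ.mpr hμ)
    simp [hall j]
  rw [map_pow, aeval_X, aeval_C, Algebra.algebraMap_eq_smul_one, hBb, ← Matrix.map_pow, hB, ← pow_mul] at h1
  show (A.1.1 ^ (p ^ I * c)).map ι = (Matrix.scalar (Fin n) y).map ι
  rw [h1, Matrix.scalar_apply, Matrix.diagonal_map (map_zero ι), Matrix.smul_one_eq_diagonal, ← hyF]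

end CfsgLib.SpectrumPowers
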