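/-
Elements of prescribed order in projective special unitary groups.
-/
import Cfsg.Agent.Lib.SpectrumPowers.UnitaryBound
import Cfsg.Agent.Lib.SemisimpleCount.Unitary
import Cfsg.Agent.Lib.UnitaryOrder

set_option maxHeartbeats 1000000

namespace CfsgLib.SpectrumPowers

open Polynomial Matrix

variable {F : Type*} [Field F] [Fintype F] {n q : ℕ}

/-- Central elements are the scalars. -/
theorem mk_eq_one_iff_SU (hF : Fintype.card F = q ^ 2) (hn : 3 ≤ n) (g : Cfsg.SU n F q) :
    (QuotientGroup.mk g : Cfsg.PSU n F q) = 1 ↔ ∃ t : F, g.1.1 = Matrix.scalar (Fin n) t := by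
  classical
  obtain ⟨hq, -⟩ := CfsgLib.UnitaryBasic.frob_exists hF
  obtain ⟨ζ, hζ⟩ := CfsgLib.UnitaryBasic.exists_zeta hF
  have hζq : ζ ^ (q + 1) = 1 := by rw [← hζ]; exact pow_orderOf_eq_one ζ
  have hζ1 : ζ ≠ 1 := fun h => by rw [h, orderOf_one] at hζ; omega
  have hζ2 : ζ⁻¹ ≠ ζ := fun h => by
    have h2 : ζ ^ 2 = 1 := by
      calc ζ ^ 2 = ζ * ζ⁻¹ := by rw [h, pow_two]
        _ = 1 := mul_inv_cancel ζ
    have := orderOf_le_of_pow_eq_one two_pos h2
    omega
  have hscalar : ∀ z : Cfsg.SU n F q, z ∈ Subgroup.center (Cfsg.SU n F q) →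
      ∃ r : F, z.1.1 = Matrix.scalar (Fin n) r := by
    intro z hz
    have hcomm : ∀ g : Matrix.SpecialLinearGroup (Fin n) F, g ∈ Cfsg.SU n F q → z.1.1 * g.1 = g.1 * z.1.1 :=
      fun g hg => (congrArg (fun x : Cfsg.SU n F q => x.1.1) (Subgroup.mem_center_iff.mp hz ⟨g, hg⟩)).symm
    refine CfsgLib.UnitaryBasic.scalar_of_commute (by omega) (fun i => ?_) (fun i j => ?_)
    · obtain ⟨k, hk⟩ : ∃ k : Fin n, k ≠ i := by
        haveI : Nontrivial (Fin n) := Fin.nontrivial_iff_two_le.mpr (by omega)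
        exact exists_ne i
      let d : Fin n → Fˣ := fun a => if a = i then ζ else if a = k then ζ⁻¹ else 1
      have hdet : (Matrix.diagonal fun a => (d a : F)).det = 1 := by
        rw [Matrix.det_diagonal, ← Units.coe_prod]
        have : ∏ a, d a = 1 := by
          rw [← Finset.prod_subset (Finset.subset_univ {i, k}) (fun a _ ha => by
            simp only [Finset.mem_insert, Finset.mem_singleton, not_or] at ha
            simp [d, ha.1, ha.2]), Finset.prod_pair hk.symm]
          simp [d, hk]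
        rw [this, Units.val_one]
      refine ⟨fun a => (d a : F), fun a ha => ?_, hcomm ⟨_, hdet⟩ fun u v =>
        CfsgLib.UnitaryBasic.diag_preserves (fun a => ?_) u v⟩
      · simp only [d, if_neg ha, if_true, ne_eq, Units.val_inj]
        split_ifs
        · exact hζ2
        · exact Ne.symm hζ1
      · rw [← Units.val_pow_eq_pow_val, ← Units.val_one]
        congr 1
        simp only [d]
        split_ifs <;> simp [hζq, inv_pow]
    · obtain ⟨π, hπ, hsign⟩ : ∃ π : Equiv.Perm (Fin n), π i = j ∧ Equiv.Perm.sign π = 1 := by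
        rcases eq_or_ne i j with rfl | hij
        · exact ⟨1, rfl, map_one _⟩
        · obtain ⟨k, hk⟩ : ∃ k, k ∉ ({i, j} : Finset (Fin n)) := by
            by_contra h
            push Not at h
            have h1 := Finset.card_le_card (fun k _ => h k : (Finset.univ : Finset (Fin n)) ⊆ {i, j})
            have h2 : ({i, j} : Finset (Fin n)).card ≤ 2 := Finset.card_le_two
            simp at h1
            omega
          simp only [Finset.mem_insert, Finset.mem_singleton, not_or] at hk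
          refine ⟨Equiv.swap i j * Equiv.swap j k, ?_, ?_⟩
          · rw [Equiv.Perm.mul_apply, Equiv.swap_apply_of_ne_of_ne hij (Ne.symm hk.1), Equiv.swap_apply_left]
          · rw [map_mul, Equiv.Perm.sign_swap hij, Equiv.Perm.sign_swap (Ne.symm hk.2)]; rfl
      refine ⟨fun _ => 1, π, hπ, fun _ => one_ne_zero, ?_⟩
      rw [Matrix.diagonal_one, Matrix.one_mul]
      exact hcomm ⟨π.permMatrix F, by rw [Matrix.det_permutation, hsign]; simp⟩
        fun u v => CfsgLib.UnitaryBasic.perm_preserves _ u v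
  rw [QuotientGroup.eq_one_iff]
  refine ⟨hscalar g, fun ⟨t, ht⟩ => Subgroup.mem_center_iff.mpr fun x => Subtype.ext (Subtype.ext ?_)⟩
  show x.1.1 * g.1.1 = g.1.1 * x.1.1
  rw [ht]
  exact (Matrix.scalar_commute t (fun _ => Commute.all _ _) x.1.1).eq.symm

theorem exists_SU_charpoly (hF : Fintype.card F = q ^ 2) (p : ℕ) [Fact p.Prime] [CharP F p] {s : F →+* F}
    (hs : ∀ x, s x = x ^ q) (P : F[X]) (hm : P.Monic) (hd : P.natDegree = n) (h0 : P.coeff 0 = (-1) ^ n)
    (hk : ∀ k, k ≤ n → s (P.coeff k) = (-1) ^ n * P.coeff (n - k)) :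
    ∃ g : Cfsg.SU n F q, g.1.1.charpoly = P := by
  classical
  set σ := s
  have hσ := hs
  set ε : F := (-1) ^ n with hεdef
  have hε : ε * ε = 1 := by rw [hεdef, ← mul_pow, neg_one_mul, neg_neg, one_pow]
  have hσε : σ ε = ε := by rw [hεdef, map_pow, map_neg, map_one]
  have hne0 : P.coeff 0 ≠ 0 := by rw [h0]; exact pow_ne_zero _ (neg_ne_zero.mpr one_ne_zero)
  obtain ⟨M, hM, ho⟩ := CfsgLib.SemisimpleClasses.exists_GL (p := p) P hm hd hne0
  have hdet : M.1.det = 1 := by
    rw [Matrix.det_eq_sign_charpoly_coeff, hM, h0, Fintype.card_fin]; exact hε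
  set B := CfsgLib.SemisimpleCount.twist σ M with hB
  have hoB : (orderOf B).Coprime p := Nat.Coprime.coprime_dvd_left (orderOf_map_dvd (CfsgLib.SemisimpleCount.twist σ) M) ho
  have hBc : B.1.charpoly = P := by
    show (((M⁻¹).1.map σ)ᵀ).charpoly = P
    rw [CfsgLib.SemisimpleCount.charpoly_transpose_map, Matrix.coe_units_inv]
    refine Polynomial.ext fun k => ?_
    rcases le_or_gt k n with hle | hgt
    · rw [coeff_map, CfsgLib.SemisimpleCount.charpoly_inv_coeff _ M.isUnit (by rw [Fintype.card_fin]; exact hle), hdet, inv_one,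
        mul_one, hM, Fintype.card_fin, map_mul, ← hεdef, hσε, hk _ (by omega), ← mul_assoc, hε, one_mul]
      congr 1
      omega
    · rw [coeff_eq_zero_of_natDegree_lt (p := P) (by omega), coeff_eq_zero_of_natDegree_lt]
      refine lt_of_le_of_lt natDegree_map_le ?_
      rw [Matrix.charpoly_natDegree_eq_dim, Fintype.card_fin]
      exact hgt
  obtain ⟨Q, hQ⟩ := CfsgLib.SemisimpleClasses.exists_conj (CfsgLib.SemisimpleClasses.isSemisimple_of_coprime M ho)
    (CfsgLib.SemisimpleClasses.isSemisimple_of_coprime B hoB) (hM.trans hBc.symm)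
  obtain ⟨B', hB'⟩ := (CfsgLib.UnitaryConj.similar_iff hF M).mpr ⟨Q, by
    have e : (((M : Matrix (Fin n) (Fin n) F).map (fun x : F => x ^ q)).transpose)⁻¹ = B.1 := by
      rw [show (fun x : F => x ^ q) = ⇑σ from funext fun x => (hσ x).symm]
      exact Matrix.inv_eq_left_inv B.val_inv
    rw [e]
    exact hQ⟩
  obtain ⟨c, hc⟩ := isConj_iff.mp hB'
  have hc1 : B'.1.1.charpoly = P := by
    rw [← hc, ← hM]
    simp only [Units.val_mul, Matrix.coe_units_inv]
    exact Matrix.charpoly_units_conj c M.1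
  have hdet' : B'.1.1.det = 1 := by
    rw [Matrix.det_eq_sign_charpoly_coeff, hc1, h0, Fintype.card_fin]; exact hε
  let g : ↥(Cfsg.SU n F q) := ⟨⟨B'.1.1, hdet'⟩, fun u v => B'.2 u v⟩
  exact ⟨g, hc1⟩

/-- An element whose order is a multiple of the torus exponent. -/
theorem exists_uSinger (hF : Fintype.card F = q ^ 2) (p : ℕ) [Fact p.Prime] [CharP F p] {s : F →+* F}
    (hs : ∀ x, s x = x ^ q) (hn : 3 ≤ n) : ∃ τ : Cfsg.PSU n F q, uSinger q n ∣ orderOf τ := by
  classical
  have hp : p.Prime := Fact.out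
  obtain ⟨a, hqa, ha⟩ := exists_prime_pow hF p
  let Ω := AlgebraicClosure F
  set ι := algebraMap F Ω with hι
  haveI : CharP Ω p := charP_of_injective_algebraMap ι.injective p
  set fr : Ω →+* Ω := iterateFrobenius Ω p a with hfr
  have hfrx : ∀ x : Ω, fr x = x ^ q := fun x => by rw [hfr, iterateFrobenius_def, hqa]
  set N := (alt q n).natAbs with hN
  have hNp : ¬ p ∣ N := by
    intro h
    rw [hN] at h
    have h1 : (p : ℤ) ∣ alt q n := Int.natCast_dvd.mpr h
    have h2 : ((alt q n : ℤ) : ZMod p) = 0 := (ZMod.intCast_zmod_eq_zero_iff_dvd _ _).mpr h1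
    have hq0 : (q : ZMod p) = 0 := by rw [hqa, Nat.cast_pow, ZMod.natCast_self, zero_pow (by omega)]
    rw [alt, Int.cast_sum, Finset.sum_eq_single 0] at h2
    · simp at h2
    · intro j _ hj; simp [hq0, hj]
    · intro h0; exact absurd (Finset.mem_range.mpr (by omega)) h0
  haveI : NeZero (N : Ω) := ⟨by rwa [Ne, CharP.cast_eq_zero_iff Ω p]⟩
  have hNpos : 0 < N := Nat.pos_of_ne_zero fun h => hNp (h ▸ dvd_zero p)
  obtain ⟨z, hz⟩ := IsAlgClosed.exists_root (cyclotomic N Ω) (by
    rw [degree_cyclotomic]; exact_mod_cast (Nat.totient_pos.mpr hNpos).ne')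
  have hz' : IsPrimitiveRoot z N := (isRoot_cyclotomic_iff).mp hz
  set u : Ωˣ := Units.mk0 z (hz'.ne_zero hNpos.ne') with hu
  have huN : ∀ k : ℕ, u ^ k = 1 ↔ N ∣ k := fun k => by
    rw [← hz'.pow_eq_one_iff_dvd, Units.ext_iff]; simp [hu]
  have hus : u ^ alt q n = 1 := by
    rcases Int.natAbs_eq (alt q n) with h | h
    · rw [h, zpow_natCast, huN]
    · rw [h, _root_.zpow_neg, zpow_natCast, (huN _).mpr dvd_rfl, inv_one]
  have hper : u ^ ((-(q : ℤ)) ^ n) = u := by
    have e : (-(q : ℤ)) ^ n = alt q n * (-(q : ℤ) - 1) + 1 := by rw [alt, geom_sum_mul]; ring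
    rw [e, _root_.zpow_add, _root_.zpow_mul, hus, _root_.one_zpow, one_mul, zpow_one]
  set v : ℕ → Ω := fun j => ((u ^ ((-(q : ℤ)) ^ j) : Ωˣ) : Ω) with hv
  have hvn : v n = v 0 := by simp only [hv, hper, pow_zero, zpow_one]
  have hvstep : ∀ j, (v (j + 1))⁻¹ = v j ^ q := fun j => by
    simp only [hv]
    rw [← Units.val_inv_eq_inv_val, ← Units.val_pow_eq_pow_val, ← zpow_natCast, ← _root_.zpow_mul,
      ← _root_.zpow_neg]
    congr 2
    ring
  have hv0 : ∀ j, v j ≠ 0 := fun j => Units.ne_zero _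
  have hvprod : ∏ j ∈ Finset.range n, v j = 1 := by
    have e : ∀ S : Finset ℕ, ∏ j ∈ S, u ^ ((-(q : ℤ)) ^ j) = u ^ ∑ j ∈ S, (-(q : ℤ)) ^ j := by
      intro S
      induction S using Finset.induction with
      | empty => simp
      | insert j S hj ih => rw [Finset.sum_insert hj, Finset.prod_insert hj, _root_.zpow_add, ih]
    simp only [hv]
    rw [← Units.coe_prod, e, show ∑ j ∈ Finset.range n, (-(q : ℤ)) ^ j = alt q n from rfl, hus, Units.val_one]
  set ε : Ω := (-1) ^ n with hεd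
  have hε : ε * ε = 1 := by rw [hεd, ← mul_pow, neg_one_mul, neg_neg, one_pow]
  set PΩ : Polynomial Ω := ∏ j ∈ Finset.range n, (X - C (v j)) with hPΩ
  have hPm : PΩ.Monic := monic_prod_of_monic _ _ fun j _ => monic_X_sub_C _
  have hPd : PΩ.natDegree = n := by
    rw [hPΩ, natDegree_prod_of_monic _ _ fun j _ => monic_X_sub_C _]; simp
  have hPmap : PΩ.map fr = ∏ j ∈ Finset.range n, (X - C ((v j)⁻¹)) := by
    have h1 : ∀ g : ℕ → Polynomial Ω, g n = g 0 → g 0 ≠ 0 →
        ∏ j ∈ Finset.range n, g (j + 1) = ∏ j ∈ Finset.range n, g j := fun g hg hg0 => by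
      have e1 := Finset.prod_range_succ' g n
      rw [Finset.prod_range_succ, hg] at e1
      exact (mul_right_cancel₀ hg0 e1).symm
    rw [hPΩ, Polynomial.map_prod, Finset.prod_congr rfl fun j _ => (by
      rw [Polynomial.map_sub, map_X, map_C, hfrx, ← hvstep] :
      (X - C (v j)).map fr = X - C ((v (j + 1))⁻¹))]
    exact h1 (fun j => X - C ((v j)⁻¹)) (by simp only [hvn]) (X_sub_C_ne_zero _)
  have hrev : PΩ.reverse = C ε * PΩ.map fr := by
    have h1 : ∀ j, (X - C (v j)).reverse = C (-(v j)) * (X - C ((v j)⁻¹)) := fun j => by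
      rw [reverse, natDegree_X_sub_C]
      ext i
      rw [coeff_reflect, coeff_C_mul]
      rcases i with _ | _ | i
      · simp [revAt_le]
        rw [neg_mul_neg, mul_inv_cancel₀ (hv0 j)]
      · simp [revAt_le, coeff_X, coeff_C]
      · rw [show revAt 1 (i + 1 + 1) = i + 1 + 1 by
          show (if i + 1 + 1 ≤ 1 then 1 - (i + 1 + 1) else i + 1 + 1) = _
          rw [if_neg (by omega)]]
        simp [coeff_X, coeff_C]
    have h2 : ∀ S : Finset ℕ, (∏ j ∈ S, (X - C (v j))).reverse = ∏ j ∈ S, (X - C (v j)).reverse := by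
      intro S
      induction S using Finset.induction with
      | empty => rw [Finset.prod_empty, Finset.prod_empty, ← C_1, reverse_C]
      | insert j S hj ih => rw [Finset.prod_insert hj, Finset.prod_insert hj, reverse_mul_of_domain, ih]
    rw [hPmap, hPΩ, h2, Finset.prod_congr rfl fun j _ => h1 j, Finset.prod_mul_distrib, ← map_prod]
    congr 2
    rw [Finset.prod_neg, hvprod, mul_one, Finset.card_range]
  have hsym : ∀ k, k ≤ n → fr (PΩ.coeff k) = ε * PΩ.coeff (n - k) := fun k hk => by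
    have h := congrArg (fun R : Polynomial Ω => R.coeff k) hrev
    simp only [coeff_reverse, hPd, revAt_le hk, coeff_C_mul, coeff_map] at h
    rw [h, ← mul_assoc, hε, one_mul]
  have hfε : fr ε = ε := by rw [hεd, map_pow, map_neg, map_one]
  have hrat : ∀ k, ∃ t : F, ι t = PΩ.coeff k := fun k => by
    refine mem_of_pow_eq _ ?_
    rcases le_or_gt k n with hk | hk
    · rw [hF, sq, pow_mul, ← hfrx, ← hfrx, hsym k hk, map_mul, hfε, hsym (n - k) (by omega),
        show n - (n - k) = k by omega, ← mul_assoc, hε, one_mul]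
    · rw [coeff_eq_zero_of_natDegree_lt (by omega), zero_pow Fintype.card_ne_zero]
  obtain ⟨P, hP⟩ : ∃ P : F[X], P.map ι = PΩ := by
    have hl : PΩ ∈ lifts ι := (lifts_iff_coeff_lifts _).mpr fun k => hrat k
    exact (mem_lifts _).mp hl
  have hPc : ∀ k, ι (P.coeff k) = PΩ.coeff k := fun k => by rw [← hP, coeff_map]
  have hmon : P.Monic := monic_of_injective ι.injective (hP ▸ hPm)
  have hdeg : P.natDegree = n := by rw [← hPd, ← hP, natDegree_map_eq_of_injective ι.injective]
  obtain ⟨g, hg⟩ := exists_SU_charpoly hF p hs P hmon hdeg (ι.injective (by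
      rw [hPc, hPΩ, coeff_zero_eq_eval_zero, eval_prod]
      simp only [eval_sub, eval_X, eval_C, zero_sub]
      rw [Finset.prod_neg, hvprod, mul_one, Finset.card_range, map_pow, map_neg, map_one]))
    (fun k hk => ι.injective (by rw [hs, map_pow, hPc, ← hfrx, hsym k hk, map_mul, hPc, hεd, map_pow, map_neg, map_one]))
  refine ⟨QuotientGroup.mk g, ?_⟩
  set t := orderOf (QuotientGroup.mk g : Cfsg.PSU n F q)
  have h1 : (QuotientGroup.mk (g ^ t) : Cfsg.PSU n F q) = 1 := by
    rw [QuotientGroup.mk_pow, pow_orderOf_eq_one]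
  obtain ⟨y, hy⟩ := (mk_eq_one_iff_SU hF hn _).mp h1
  have hy' : g.1.1 ^ t = Matrix.scalar (Fin n) y := by
    rw [← hy, SubmonoidClass.coe_pow, Matrix.SpecialLinearGroup.coe_pow]
  have hyq : y ^ q * y = 1 := by
    have h2 := (mem_SU_iff hs (g ^ t).1).mp (g ^ t).2
    rw [hy] at h2
    have := congrFun (congrFun h2 ⟨0, by omega⟩) ⟨0, by omega⟩
    simpa [Matrix.mul_apply, Matrix.scalar_apply, Matrix.diagonal_apply, hs] using this
  haveI : NeZero n := ⟨by omega⟩
  have hzy : z ^ t = ι y := by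
    have hzr : z ∈ spectrum Ω (g.1.1.map ι) := by
      rw [Matrix.mem_spectrum_iff_isRoot_charpoly, Matrix.charpoly_map, hg, hP, IsRoot, hPΩ, eval_prod]
      refine Finset.prod_eq_zero (i := 0) (Finset.mem_range.mpr (by omega)) ?_
      simp [hv, hu]
    have := spectrum.subset_polynomial_aeval (g.1.1.map ι) (X ^ t - C (ι y)) ⟨z, hzr, rfl⟩
    have e2 : algebraMap Ω (Matrix (Fin n) (Fin n) Ω) (ι y) = Matrix.diagonal fun _ => ι y := by
      rw [Matrix.algebraMap_eq_diagonal]; rfl
    rw [map_sub, map_pow, aeval_X, aeval_C, e2, ← Matrix.map_pow, hy', Matrix.scalar_apply,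
      Matrix.diagonal_map (map_zero ι), sub_self, spectrum.zero_eq] at this
    simpa [sub_eq_zero] using this
  refine uSinger_dvd ((huN _).mp (Units.ext ?_))
  rw [Units.val_pow_eq_pow_val, Units.val_one, show (u : Ω) = z from rfl, pow_mul, hzy, ← map_pow,
    pow_succ, hyq, map_one]

/-- A nilpotent matrix of maximal index is similar to the shift. -/
theorem exists_cyclic_basis {K : Type*} [Field K] {k : ℕ} (N : Matrix (Fin k) (Fin k) K) (h1 : N ^ k = 0)
    (h2 : N ^ (k - 1) ≠ 0) :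
    ∃ P : GL (Fin k) K, P.1 * Matrix.of (fun i j : Fin k => if i.val + 1 = j.val then (1 : K) else 0) = N * P.1 := by
  classical
  obtain ⟨v, hv⟩ : ∃ v, N ^ (k - 1) *ᵥ v ≠ 0 := by
    by_contra h
    simp only [not_exists, not_not] at h
    exact h2 (Matrix.ext_of_mulVec_single fun j => by rw [h, Matrix.zero_mulVec])
  set P : Matrix (Fin k) (Fin k) K := Matrix.of fun i j => (N ^ (k - 1 - j.val) *ᵥ v) i with hP
  have hPc : ∀ c : Fin k → K, P *ᵥ c = ∑ j, c j • (N ^ (k - 1 - j.val) *ᵥ v) := fun c => by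
    ext i; simp [hP, Matrix.mulVec, dotProduct, Finset.sum_apply, mul_comm]
  have hinj : Function.Injective P.mulVec := by
    rw [← Matrix.coe_mulVecLin, injective_iff_map_eq_zero]
    intro c hc
    by_contra hne
    have hS : (Finset.univ.filter fun j => c j ≠ 0).Nonempty := by
      obtain ⟨j, hj⟩ := Function.ne_iff.mp hne
      exact ⟨j, by simpa using hj⟩
    set j0 := (Finset.univ.filter fun j => c j ≠ 0).max' hS
    have hj0 : c j0 ≠ 0 := (Finset.mem_filter.mp ((Finset.univ.filter fun j => c j ≠ 0).max'_mem hS)).2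
    have h := congrArg (N ^ j0.val *ᵥ ·) (show P *ᵥ c = 0 from hc)
    simp only [hPc, Matrix.mulVec_sum, Matrix.mulVec_smul, Matrix.mulVec_mulVec, ← pow_add, Matrix.mulVec_zero] at h
    rw [Finset.sum_eq_single j0] at h
    · rw [show j0.val + (k - 1 - j0.val) = k - 1 by have := j0.isLt; omega, smul_eq_zero] at h
      exact h.elim hj0 hv
    · intro j _ hjne
      by_cases hcj : c j = 0
      · simp [hcj]
      · have hle := (Finset.univ.filter fun j => c j ≠ 0).le_max' j (by simpa using hcj)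
        have hlt : j.val < j0.val := Fin.lt_def.mp (lt_of_le_of_ne hle hjne)
        rw [pow_eq_zero_of_le (by omega) h1, Matrix.zero_mulVec, smul_zero]
    · simp
  refine ⟨(Matrix.mulVec_injective_iff_isUnit.mp hinj).unit, ?_⟩
  rw [IsUnit.unit_spec]
  ext i j
  rw [show (N * P) i j = (N ^ (k - 1 - j.val + 1) *ᵥ v) i by
    rw [pow_succ', ← Matrix.mulVec_mulVec]; rfl, Matrix.mul_apply]
  simp only [Matrix.of_apply, mul_ite, mul_one, mul_zero]
  by_cases hj : j.val = 0
  · rw [Finset.sum_eq_zero fun x _ => if_neg (by omega),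
      pow_eq_zero_of_le (by have := j.isLt; omega) h1, Matrix.zero_mulVec, Pi.zero_apply]
  · rw [Finset.sum_eq_single (⟨j.val - 1, by omega⟩ : Fin k), if_pos (by simp only; omega)]
    · simp only [hP, Matrix.of_apply]
      rw [show k - 1 - (j.val - 1) = k - 1 - j.val + 1 by have := j.isLt; omega]
    · exact fun x _ hx => if_neg fun e => hx (Fin.ext (by simp only; omega))
    · simp

/-- A regular unipotent element. -/
theorem exists_regular_unipotent {k : ℕ} (hF : Fintype.card F = q ^ 2) {s : F →+* F}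
    (hs : ∀ x, s x = x ^ q) (hk : 1 ≤ k) :
    ∃ U : Cfsg.SU k F q, (U.1.1 - 1) ^ k = 0 ∧ (U.1.1 - 1) ^ (k - 1) ≠ 0 := by
  classical
  set S : Matrix (Fin k) (Fin k) F := Matrix.of fun i j => if i.val + 1 = j.val then (1 : F) else 0 with hS
  have hpow : ∀ e : ℕ, ∀ i j : Fin k, (S ^ e) i j = if i.val + e = j.val then 1 else 0 := by
    intro e
    induction e with
    | zero => intro i j; simp [Matrix.one_apply, Fin.ext_iff]
    | succ e ih =>
      intro i j
      rw [pow_succ, Matrix.mul_apply]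
      simp only [ih, ite_mul, one_mul, zero_mul]
      by_cases h : i.val + e < k
      · rw [Finset.sum_eq_single (⟨i.val + e, h⟩ : Fin k), if_pos rfl]
        · simp [hS, Nat.add_assoc]
        · exact fun x _ hx => if_neg fun e' => hx (Fin.ext e'.symm)
        · simp
      · rw [Finset.sum_eq_zero fun x _ => if_neg (by omega), if_neg (by omega)]
  have hSk : S ^ k = 0 := by ext i j; rw [hpow, Matrix.zero_apply, if_neg (by omega)]
  have hSk1 : S ^ (k - 1) ≠ 0 := fun h => by
    have := congrFun (congrFun h ⟨0, by omega⟩) ⟨k - 1, by omega⟩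
    rw [hpow, if_pos (by simp), Matrix.zero_apply] at this
    exact one_ne_zero this
  have hdet : (1 + S).det = 1 := by
    have hbt : (1 + S).BlockTriangular id := by
      intro i j hij
      have hij' : j.val < i.val := hij
      rw [Matrix.add_apply, Matrix.one_apply_ne (Fin.ne_of_val_ne (ne_of_gt hij')), zero_add]
      exact if_neg (by omega)
    rw [Matrix.det_of_upperTriangular hbt]
    refine Finset.prod_eq_one fun i _ => ?_
    rw [Matrix.add_apply, Matrix.one_apply_eq, show S i i = 0 from if_neg (by omega), add_zero]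
  let M : GL (Fin k) F := Matrix.GeneralLinearGroup.mkOfDetNeZero (1 + S) (by rw [hdet]; exact one_ne_zero)
  have hM : M.1 = 1 + S := rfl
  have hMs : M.1.map (fun x : F => x ^ q) = M.1 := by
    have hq0 : q ≠ 0 := fun h => by rw [h] at hF; simp at hF
    ext i j
    simp only [hM, Matrix.map_apply, Matrix.add_apply, Matrix.one_apply, hS, Matrix.of_apply]
    split_ifs with h1 h2
    · exfalso; rw [h1] at h2; omega
    all_goals simp [hq0]
  set N : Matrix (Fin k) (Fin k) F := ((M⁻¹).1)ᵀ - 1 with hN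
  have hNeq : N = (-((M⁻¹).1 * S))ᵀ := by
    have e : (M⁻¹).1 * (1 + S) = 1 := by rw [← hM]; exact Units.inv_mul M
    have e' : (M⁻¹).1 - 1 = -((M⁻¹).1 * S) := by
      rw [mul_add, mul_one] at e
      rw [sub_eq_iff_eq_add, neg_add_eq_sub, eq_sub_iff_add_eq]
      exact e
    rw [hN, ← e', transpose_sub, transpose_one]
  have hcomm : Commute (M⁻¹).1 S := by
    have h : Commute M.1 S := by rw [hM]; exact (Commute.one_left S).add_left (Commute.refl S)
    exact h.units_inv_left
  have hNp : ∀ e : ℕ, N ^ e = ((-1 : F) ^ e • ((M⁻¹).1 ^ e * S ^ e))ᵀ := fun e => by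
    rw [hNeq, ← transpose_pow, ← hcomm.mul_pow, ← neg_one_smul F ((M⁻¹).1 * S), _root_.smul_pow]
  obtain ⟨P, hP⟩ := exists_cyclic_basis N (by rw [hNp, hSk, mul_zero, smul_zero, transpose_zero]) (fun h => hSk1 (by
    rw [hNp, transpose_eq_zero, smul_eq_zero] at h
    exact (Units.mul_right_eq_zero ((M⁻¹) ^ (k - 1))).mp (by
      rw [Units.val_pow_eq_pow_val]
      exact h.resolve_left (pow_ne_zero _ (neg_ne_zero.mpr one_ne_zero)))))
  obtain ⟨B, hB⟩ := (CfsgLib.UnitaryConj.similar_iff hF M).mpr ⟨P, by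
    show P.1 * M.1 = _ * P.1
    rw [hMs, hM, mul_add, mul_one, hP, hN, sub_mul, one_mul, add_sub_cancel]
    congr 1
    rw [Matrix.coe_units_inv, hM, Matrix.transpose_nonsing_inv]⟩
  obtain ⟨c, hc⟩ := isConj_iff.mp hB
  have hBd : B.1.1.det = 1 := by
    rw [← hc, Units.val_mul, Units.val_mul, Matrix.det_units_conj, hM, hdet]
  refine ⟨⟨⟨B.1.1, hBd⟩, fun u v => B.2 u v⟩, ?_⟩
  show (B.1.1 - 1) ^ k = 0 ∧ (B.1.1 - 1) ^ (k - 1) ≠ 0
  have e : ∀ j, (B.1.1 - 1) ^ j = c.1 * S ^ j * (c⁻¹).1 := fun j => by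
    rw [← hc, Units.val_mul, Units.val_mul,
      show c.1 * M.1 * (c⁻¹).1 - 1 = c.1 * S * (c⁻¹).1 by rw [hM, mul_add, mul_one, add_mul, Units.mul_inv, add_sub_cancel_left],
      Units.conj_pow]
  refine ⟨by rw [e, hSk, mul_zero, zero_mul], fun h => hSk1 ?_⟩
  rw [e] at h
  exact (Units.mul_right_eq_zero c).mp ((Units.mul_left_eq_zero c⁻¹).mp h)

/-- The order of a regular unipotent element in the projective group. -/
theorem unipotent_order (p : ℕ) [Fact p.Prime] [CharP F p] (hF : Fintype.card F = q ^ 2) (hn : 3 ≤ n)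
    (g : Cfsg.SU n F q) (hnil : IsNilpotent (g.1.1 - 1)) (hbig : (g.1.1 - 1) ^ p ^ (Nat.clog p n - 1) ≠ 0) :
    orderOf (QuotientGroup.mk g : Cfsg.PSU n F q) = p ^ Nat.clog p n := by
  have hp : p.Prime := Fact.out
  haveI : NeZero n := ⟨by omega⟩
  have h0 : (g.1.1 - 1) ^ p ^ Nat.clog p n = 0 := pow_eq_zero_of_le (Nat.le_pow_clog hp.one_lt n)
    (CfsgLib.Unipotent.pow_eq_zero_of_isNilpotent hnil)
  have hco : ∀ j, (g ^ j).1.1 = g.1.1 ^ j := fun j => by
    rw [SubmonoidClass.coe_pow, Matrix.SpecialLinearGroup.coe_pow]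
  have h1 : (QuotientGroup.mk g : Cfsg.PSU n F q) ^ p ^ Nat.clog p n = 1 := by
    rw [← QuotientGroup.mk_pow]
    refine (mk_eq_one_iff_SU hF hn _).mpr ⟨1, ?_⟩
    rw [hco, map_one]
    rw [CfsgLib.Unipotent.sub_one_pow_char_pow p (by omega), sub_eq_zero] at h0
    exact h0
  obtain ⟨j, hj, he⟩ := (Nat.dvd_prime_pow hp).mp (orderOf_dvd_of_pow_eq_one h1)
  rcases lt_or_eq_of_le hj with hlt | heq
  swap
  · rw [he, heq]
  exfalso
  have h2 : (QuotientGroup.mk (g ^ p ^ j) : Cfsg.PSU n F q) = 1 := by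
    rw [QuotientGroup.mk_pow, ← he, pow_orderOf_eq_one]
  obtain ⟨t, ht⟩ := (mk_eq_one_iff_SU hF hn _).mp h2
  rw [hco] at ht
  have h3 : (g.1.1 - 1) ^ p ^ j = (t - 1) • (1 : Matrix (Fin n) (Fin n) F) := by
    rw [CfsgLib.Unipotent.sub_one_pow_char_pow p (by omega), ht, Matrix.scalar_apply,
      ← Matrix.smul_one_eq_diagonal, sub_smul, one_smul]
  obtain ⟨e, he'⟩ := hnil.pow_of_pos (pow_pos hp.pos j).ne'
  rw [h3, _root_.smul_pow, one_pow, smul_eq_zero] at he'
  have ht1 : t - 1 = 0 := eq_zero_of_pow_eq_zero (he'.resolve_right one_ne_zero)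
  rw [ht1, zero_smul] at h3
  exact hbig (pow_eq_zero_of_le (Nat.pow_le_pow_right hp.pos (by omega)) h3)

/-- An element of order `r` commuting with a given element preserving a self-adjoint idempotent. -/
theorem exists_commute_orderOf_SU {r : ℕ} (hr : r.Prime) (hrq : r ∣ q + 1) (hrn : ¬ r ∣ n)
    (hF : Fintype.card F = q ^ 2) (hn : 3 ≤ n) {s : F →+* F} (hs : ∀ x, s x = x ^ q)
    (A : Cfsg.SU n F q) (e : Matrix (Fin n) (Fin n) F) (he : e * e = e) (hcomm : Commute e A.1.1)
    (hsa : (e.map s)ᵀ = e) (he0 : e ≠ 0) (he1 : e ≠ 1) :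
    ∃ ξ : Cfsg.PSU n F q, orderOf ξ = r ∧ Commute (QuotientGroup.mk A : Cfsg.PSU n F q) ξ := by
  classical
  haveI := Fact.mk hr
  obtain ⟨η, hη⟩ := CfsgLib.UnitaryBasic.exists_zeta hF
  set ζu : Fˣ := η ^ ((q + 1) / r) with hζu
  have hζo : orderOf ζu = r := by
    rw [hζu, orderOf_pow_of_dvd (Nat.div_pos (Nat.le_of_dvd (by omega) hrq) hr.pos).ne'
      (by rw [hη]; exact Nat.div_dvd_of_dvd hrq), hη, Nat.div_div_self hrq (by omega)]
  set ζ : F := (ζu : F) with hζdef
  have hζr : ζ ^ r = 1 := by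
    rw [hζdef, ← Units.val_pow_eq_pow_val, ← hζo, pow_orderOf_eq_one, Units.val_one]
  have hζ1 : ζ ≠ 1 := fun h => hr.ne_one (by
    have h1 : ζu = 1 := Units.ext h
    rw [← hζo, h1, orderOf_one])
  obtain ⟨d, hd⟩ := hrq
  have hnorm : ∀ x : F, x ^ r = 1 → x ^ q * x = 1 := fun x hx => by
    rw [← pow_succ, hd, pow_mul, hx, one_pow]
  set P : Matrix (Fin n) (Fin n) F := 1 + (ζ - 1) • e with hP
  have hpow : ∀ k : ℕ, P ^ k = 1 + (ζ ^ k - 1) • e := by
    intro k
    induction k with
    | zero => simp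
    | succ k ih =>
      rw [pow_succ, ih, hP]
      simp only [add_mul, mul_add, one_mul, mul_one, Matrix.smul_mul, Matrix.mul_smul, he, smul_smul]
      rw [add_assoc, ← add_smul, ← add_smul]
      congr 2
      rw [pow_succ]; ring
  have hδ : P.det ^ r = 1 := by rw [← Matrix.det_pow, hpow, hζr, sub_self, zero_smul, add_zero, Matrix.det_one]
  obtain ⟨m, -, hm⟩ := Nat.exists_mul_mod_eq_one_of_coprime (Nat.Coprime.symm (hr.coprime_iff_not_dvd.mpr hrn))
    hr.one_lt
  set γ : F := (P.det)⁻¹ ^ m with hγ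
  have hδ0 : P.det ≠ 0 := fun h => by rw [h, zero_pow hr.ne_zero] at hδ; exact zero_ne_one hδ
  have hinv : (P.det)⁻¹ ^ r = 1 := by rw [inv_pow, hδ, inv_one]
  have hdet : (γ • P).det = 1 := by
    rw [Matrix.det_smul, Fintype.card_fin, hγ, ← pow_mul, mul_comm m n, ← Nat.div_add_mod (n * m) r, hm,
      pow_add, pow_mul, hinv, one_pow, one_mul, pow_one, inv_mul_cancel₀ hδ0]
  have hγr : γ ^ r = 1 := by rw [hγ, ← pow_mul, mul_comm, pow_mul, hinv, one_pow]
  have hγ0 : γ ≠ 0 := fun h => by rw [h, zero_pow hr.ne_zero] at hγr; exact zero_ne_one hγr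
  have hu : (((γ • P).map s)ᵀ) * (γ • P) = 1 := by
    have e1 : ((γ • P).map s)ᵀ = s γ • (1 + (s ζ - 1) • e) := by
      ext i j
      have := congrFun (congrFun hsa i) j
      simp only [transpose_apply, map_apply] at this
      simp [hP, Matrix.one_apply, apply_ite s, eq_comm, this, mul_add, mul_ite]
    rw [e1, hP, Matrix.smul_mul, Matrix.mul_smul, smul_smul, hs, hs, hnorm γ hγr, one_smul]
    simp only [add_mul, mul_add, one_mul, mul_one, Matrix.smul_mul, Matrix.mul_smul, he, smul_smul]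
    rw [add_assoc, ← add_smul, ← add_smul, show ζ ^ q - 1 + (ζ - 1 + (ζ - 1) * (ζ ^ q - 1)) = 0 by
      linear_combination hnorm ζ hζr, zero_smul, add_zero]
  let X : Cfsg.SU n F q := ⟨⟨γ • P, hdet⟩, (mem_SU_iff hs _).mpr hu⟩
  have hXr : X ^ r = 1 := by
    apply Subtype.ext
    apply Subtype.ext
    rw [SubmonoidClass.coe_pow, Matrix.SpecialLinearGroup.coe_pow]
    show (γ • P) ^ r = 1
    rw [_root_.smul_pow, hγr, one_smul, hpow, hζr, sub_self, zero_smul, add_zero]
  refine ⟨(QuotientGroup.mk X : Cfsg.PSU n F q), orderOf_eq_prime ?_ ?_, ?_⟩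
  · rw [← QuotientGroup.mk_pow, hXr]; rfl
  · intro h
    obtain ⟨t, ht⟩ := (mk_eq_one_iff_SU hF hn X).mp h
    have ht' : γ • P = Matrix.scalar (Fin n) t := ht
    rw [Matrix.scalar_apply, ← Matrix.smul_one_eq_diagonal, hP] at ht'
    obtain ⟨i, j, hij⟩ : ∃ i j : Fin n, e i j ≠ (e ⟨0, by omega⟩ ⟨0, by omega⟩ • (1 : Matrix (Fin n) (Fin n) F)) i j := by
      by_contra hno
      simp only [not_exists, not_not] at hno
      have he' : e = e ⟨0, by omega⟩ ⟨0, by omega⟩ • (1 : Matrix (Fin n) (Fin n) F) := Matrix.ext hno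
      set w := e ⟨0, by omega⟩ ⟨0, by omega⟩
      have hw : w * w = w := by
        have h3 := congrFun (congrFun he ⟨0, by omega⟩) ⟨0, by omega⟩
        rw [he', Matrix.smul_mul, Matrix.one_mul, smul_smul] at h3
        simpa using h3
      rcases mul_right_eq_self₀.mp hw with h' | h'
      · exact he1 (by rw [he', h', one_smul])
      · exact he0 (by rw [he', h', zero_smul])
    apply hij
    have hii := congrFun (congrFun ht' i) j
    have h00 := congrFun (congrFun ht' ⟨0, by omega⟩) ⟨0, by omega⟩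
    simp only [Matrix.smul_apply, Matrix.add_apply, Matrix.one_apply, smul_eq_mul] at hii h00 ⊢
    apply mul_left_cancel₀ (mul_ne_zero hγ0 (sub_ne_zero.mpr hζ1))
    rcases eq_or_ne i j with rfl | hne
    · simp only [if_true, mul_one] at hii h00 ⊢; linear_combination hii - h00
    · simp only [if_neg hne, if_true, mul_one, mul_zero, zero_add] at hii h00 ⊢; linear_combination hii
  · have hc : Commute A X := by
      apply Subtype.ext
      apply Subtype.ext
      show A.1.1 * (γ • P) = (γ • P) * A.1.1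
      exact (((Commute.one_right A.1.1).add_right ((hcomm.symm).smul_right (ζ - 1))).smul_right γ).eq
    show (QuotientGroup.mk A : Cfsg.PSU n F q) * QuotientGroup.mk X = QuotientGroup.mk X * QuotientGroup.mk A
    rw [← QuotientGroup.mk_mul, ← QuotientGroup.mk_mul, hc.eq]

end CfsgLib.SpectrumPowers
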