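/-
Element orders of direct powers absorbing an elementary abelian factor.
-/
import Mathlib

namespace CfsgLib.SpectrumPowers

/-- One torus type and one unipotent type. -/
theorem absorb_one {G : Type*} [Group G] [Finite G] {r : ℕ} [hrF : Fact r.Prime] (m : ℕ) {u₀ c : ℕ}
    (hcp : u₀.Coprime c)
    (hdich : ∀ g : G, ¬ r ∣ orderOf g → (∃ g' : G, orderOf g' = r * orderOf g) ∨ orderOf g ∣ u₀ * c)
    {ξ U τ : G} (hξ : orderOf ξ = r) (hU : u₀ ∣ orderOf U) (hτ : c ∣ orderOf τ)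
    {P : Prop} (hsecond : P → ∃ x : G, r * u₀ ∣ orderOf x) :
    Set.range (orderOf : G × G × G × Multiplicative (Fin m → ZMod r) → ℕ) =
      Set.range (orderOf : G × G × G → ℕ) ∧
    (P → Set.range (orderOf : G × G × Multiplicative (Fin m → ZMod r) → ℕ) =
      Set.range (orderOf : G × G → ℕ)) := by
  classical
  have hr : r.Prime := hrF.out
  have hpow : ∀ (g : G) (s : ℕ), s ∣ orderOf g → ∃ g' : G, orderOf g' = s := fun g s hs =>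
    ⟨g ^ (orderOf g / s), orderOf_pow_orderOf_div (orderOf_pos g).ne' hs⟩
  have hsplit : ∀ L : ℕ, L ∣ u₀ * c → ∃ u v : ℕ, u ∣ u₀ ∧ v ∣ c ∧ u * v = L ∧ Nat.Coprime u v :=
    fun L hL => ⟨Nat.gcd L u₀, Nat.gcd L c, Nat.gcd_dvd_right _ _, Nat.gcd_dvd_right _ _, by
      rw [← Nat.Coprime.gcd_mul _ hcp]; exact Nat.gcd_eq_left hL,
      hcp.coprime_dvd_left (Nat.gcd_dvd_right _ _) |>.coprime_dvd_right (Nat.gcd_dvd_right _ _)⟩
  have hlcm : ∀ x X : ℕ, ¬ r ∣ X → ¬ r ∣ x → Nat.lcm (r * x) X = r * Nat.lcm x X := by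
    intro x X hX hx
    have h : ∀ y, ¬ r ∣ y → Nat.Coprime r y := fun y hy => hr.coprime_iff_not_dvd.mpr hy
    rw [← (h x hx).lcm_eq_mul, Nat.lcm_assoc, (h _ ?_).lcm_eq_mul]
    intro hd
    rcases (Nat.Prime.dvd_mul hr).mp (hd.trans (Nat.lcm_dvd_mul x X)) with h1 | h1
    exacts [hx h1, hX h1]
  have hndvd : ∀ x y : ℕ, ¬ r ∣ Nat.lcm x y → ¬ r ∣ x ∧ ¬ r ∣ y := fun x y h =>
    ⟨fun hd => h (hd.trans (Nat.dvd_lcm_left x y)), fun hd => h (hd.trans (Nat.dvd_lcm_right x y))⟩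
  have hz : ∀ z : Multiplicative (Fin m → ZMod r), orderOf z = 1 ∨ orderOf z = r := by
    intro z
    refine (Nat.dvd_prime hr).mp (orderOf_dvd_of_pow_eq_one ?_)
    rw [← ofAdd_toAdd z, ← ofAdd_nsmul, show r • Multiplicative.toAdd z = 0 from funext fun i => by
      rw [Pi.smul_apply, nsmul_eq_mul, ZMod.natCast_self, zero_mul, Pi.zero_apply], ofAdd_zero]
  refine ⟨Set.Subset.antisymm ?_ ?_, fun hpj => Set.Subset.antisymm ?_ ?_⟩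
  · rintro _ ⟨⟨g₁, g₂, g₃, z⟩, rfl⟩
    simp only [Prod.orderOf]
    rcases hz z with hz1 | hzr
    · exact ⟨(g₁, g₂, g₃), by simp [Prod.orderOf, hz1]⟩
    rw [hzr]
    set L := Nat.lcm (orderOf g₁) (Nat.lcm (orderOf g₂) (orderOf g₃)) with hL
    have htot : Nat.lcm (orderOf g₁) (Nat.lcm (orderOf g₂) (Nat.lcm (orderOf g₃) r)) = Nat.lcm L r := by
      simp [hL, Nat.lcm_assoc]
    rw [htot]
    by_cases hrL : r ∣ L
    · exact ⟨(g₁, g₂, g₃), by simp only [Prod.orderOf]; rw [Nat.lcm_eq_left hrL]⟩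
    rw [Nat.lcm_comm L r, (hr.coprime_iff_not_dvd.mpr hrL).lcm_eq_mul]
    obtain ⟨h1, h23⟩ := hndvd _ _ hrL
    obtain ⟨h2, h3⟩ := hndvd _ _ h23
    rcases hdich g₁ h1 with ⟨g', hg'⟩ | d1
    · exact ⟨(g', g₂, g₃), by simp only [Prod.orderOf]; rw [hg', hlcm _ _ h23 h1]⟩
    rcases hdich g₂ h2 with ⟨g', hg'⟩ | d2
    · refine ⟨(g₁, g', g₃), ?_⟩
      simp only [Prod.orderOf]
      rw [hg', hlcm _ _ h3 h2, Nat.lcm_comm (orderOf g₁), hlcm _ _ h1 h23, Nat.lcm_comm _ (orderOf g₁)]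
    rcases hdich g₃ h3 with ⟨g', hg'⟩ | d3
    · refine ⟨(g₁, g₂, g'), ?_⟩
      simp only [Prod.orderOf]
      rw [hg', Nat.lcm_comm (orderOf g₂) (r * _), hlcm _ _ h2 h3, Nat.lcm_comm (orderOf g₃),
        Nat.lcm_comm (orderOf g₁) (r * _), hlcm _ _ h1 h23, Nat.lcm_comm _ (orderOf g₁)]
    obtain ⟨u, v, hu, hv, huv, hcop⟩ := hsplit L (Nat.lcm_dvd d1 (Nat.lcm_dvd d2 d3))
    obtain ⟨gu, hgu⟩ := hpow _ u (hu.trans hU)
    obtain ⟨gv, hgv⟩ := hpow τ v (hv.trans hτ)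
    refine ⟨(ξ, gu, gv), ?_⟩
    simp only [Prod.orderOf]
    rw [hgu, hgv, hξ, hcop.lcm_eq_mul, huv, (hr.coprime_iff_not_dvd.mpr hrL).lcm_eq_mul]
  · rintro _ ⟨⟨g₁, g₂, g₃⟩, rfl⟩
    exact ⟨(g₁, g₂, g₃, 1), by simp [Prod.orderOf]⟩
  · rintro _ ⟨⟨g₁, g₂, z⟩, rfl⟩
    simp only [Prod.orderOf]
    rcases hz z with hz1 | hzr
    · exact ⟨(g₁, g₂), by simp [Prod.orderOf, hz1]⟩
    rw [hzr, ← Nat.lcm_assoc]
    set L := Nat.lcm (orderOf g₁) (orderOf g₂) with hL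
    by_cases hrL : r ∣ L
    · exact ⟨(g₁, g₂), by simp only [Prod.orderOf]; rw [Nat.lcm_eq_left hrL]⟩
    rw [Nat.lcm_comm L r, (hr.coprime_iff_not_dvd.mpr hrL).lcm_eq_mul]
    obtain ⟨h1, h2⟩ := hndvd _ _ hrL
    rcases hdich g₁ h1 with ⟨g', hg'⟩ | d1
    · exact ⟨(g', g₂), by simp only [Prod.orderOf]; rw [hg', hlcm _ _ h2 h1]⟩
    rcases hdich g₂ h2 with ⟨g', hg'⟩ | d2
    · refine ⟨(g₁, g'), ?_⟩
      simp only [Prod.orderOf]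
      rw [Nat.lcm_comm (orderOf g₁), hg', hlcm _ _ h1 h2, Nat.lcm_comm _ (orderOf g₁)]
    obtain ⟨u, v, hu, hv, huv, hcop⟩ := hsplit L (Nat.lcm_dvd d1 d2)
    obtain ⟨x, hx⟩ := hsecond hpj
    obtain ⟨gu, hgu⟩ := hpow x (r * u) ((Nat.mul_dvd_mul_left r hu).trans hx)
    obtain ⟨gv, hgv⟩ := hpow τ v (hv.trans hτ)
    refine ⟨(gu, gv), ?_⟩
    simp only [Prod.orderOf]
    have hur : ¬ r ∣ u := fun h => hrL (huv ▸ h.mul_right v)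
    have hvr : ¬ r ∣ v := fun h => hrL (huv ▸ h.mul_left u)
    rw [hgu, hgv, hlcm _ _ hvr hur, hcop.lcm_eq_mul, huv]
  · rintro _ ⟨⟨g₁, g₂⟩, rfl⟩
    exact ⟨(g₁, g₂, 1), by simp [Prod.orderOf]⟩

end CfsgLib.SpectrumPowers
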