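/-
Element orders of powers of projective special unitary groups.
-/
import Cfsg.Agent.Lib.SpectrumPowers.UnitaryWitness
import Cfsg.Agent.Lib.SpectrumPowers.Absorb

set_option maxHeartbeats 1000000

namespace CfsgLib.SpectrumPowers

open Polynomial Matrix

variable {F : Type*} [Field F] [Fintype F] {n q : ℕ}

theorem not_dvd_uSinger {p a : ℕ} (hp : p.Prime) (ha : 1 ≤ a) (hq : q = p ^ a) (hn : 0 < n) :
    ¬ p ∣ uSinger q n := by
  intro h
  have h1 : (p : ℤ) ∣ alt q n := Int.natCast_dvd.mpr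
    (h.trans (Nat.div_dvd_of_dvd (Nat.gcd_dvd_left _ _)))
  obtain ⟨k, rfl⟩ : ∃ k, n = k + 1 := ⟨n - 1, by omega⟩
  rw [alt, Finset.sum_range_succ', pow_zero] at h1
  have h2 : (p : ℤ) ∣ ∑ j ∈ Finset.range k, (-(q : ℤ)) ^ (j + 1) := Finset.dvd_sum fun j _ =>
    (dvd_neg.mpr (Int.natCast_dvd_natCast.mpr (hq ▸ dvd_pow_self p (by omega)))).trans (dvd_pow_self _ (by omega))
  exact hp.not_dvd_one (by exact_mod_cast (dvd_add_right h2).mp h1)

omit [Fintype F] in
theorem det_ext1 {k : ℕ} (M : Matrix (Fin k) (Fin k) F) : (CfsgLib.UnitaryOrder.ext1 M).det = M.det := by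
  rw [Matrix.det_succ_row_zero, Finset.sum_eq_single 0]
  · have : (CfsgLib.UnitaryOrder.ext1 M).submatrix Fin.succ Fin.succ = M := by
      ext i j; simp [CfsgLib.UnitaryOrder.ext1]
    have h00 : CfsgLib.UnitaryOrder.ext1 M 0 0 = 1 := by simp [CfsgLib.UnitaryOrder.ext1]
    rw [Fin.succAbove_zero, this, h00]
    simp
  · intro j _ hj; simp [CfsgLib.UnitaryOrder.ext1, hj]
  · simp

omit [Fintype F] in
theorem ext1_sub_one_pow {k : ℕ} (M : Matrix (Fin k) (Fin k) F) (j : ℕ) (v : Fin (k + 1) → F) :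
    (CfsgLib.UnitaryOrder.ext1 M - 1) ^ (j + 1) *ᵥ v = Fin.cons 0 ((M - 1) ^ (j + 1) *ᵥ Fin.tail v) := by
  have h1 : ∀ w : Fin (k + 1) → F, (CfsgLib.UnitaryOrder.ext1 M - 1) *ᵥ w = Fin.cons 0 ((M - 1) *ᵥ Fin.tail w) :=
    fun w => by
    rw [sub_mulVec, CfsgLib.UnitaryOrder.ext1_mulVec, one_mulVec, sub_mulVec, one_mulVec]
    funext i
    refine Fin.cases ?_ (fun i => ?_) i <;> simp [Fin.tail]
  induction j with
  | zero => rw [pow_one, pow_one, h1]
  | succ j ih => rw [pow_succ', ← mulVec_mulVec, ih, h1, Fin.tail_cons, mulVec_mulVec, ← pow_succ']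

theorem absorb_unitary (p a : ℕ) {r : ℕ} (m : ℕ) (hp : p.Prime) (ha : 1 ≤ a) (hq : q = p ^ a)
    (hF : Fintype.card F = q ^ 2) (hn : 3 ≤ n) (hr : r.Prime) (hrq : r ∣ q + 1) (hrn : ¬ r ∣ n) :
    Set.range (orderOf : Cfsg.PSU n F q × Cfsg.PSU n F q × Cfsg.PSU n F q × Multiplicative (Fin m → ZMod r) → ℕ) =
      Set.range (orderOf : Cfsg.PSU n F q × Cfsg.PSU n F q × Cfsg.PSU n F q → ℕ) ∧
    ((¬ ∃ j : ℕ, n - 1 = p ^ j) →
      Set.range (orderOf : Cfsg.PSU n F q × Cfsg.PSU n F q × Multiplicative (Fin m → ZMod r) → ℕ) =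
        Set.range (orderOf : Cfsg.PSU n F q × Cfsg.PSU n F q → ℕ)) := by
  classical
  haveI := Fact.mk hp
  haveI := Fact.mk hr
  haveI : CharP F p := charP_of_card_eq_prime_pow (f := a * 2) (by rw [hF, hq, ← pow_mul])
  obtain ⟨hq1, s, hs⟩ := CfsgLib.UnitaryBasic.frob_exists hF
  have hs' : ∀ x : F, s x = x ^ q := fun x => hs x
  set I := Nat.clog p n
  have hrp : ¬ r ∣ p := fun h => by
    rw [(Nat.prime_dvd_prime_iff_eq hr hp).mp h, hq] at hrq
    exact hp.not_dvd_one ((Nat.dvd_add_right (dvd_pow_self p (by omega))).mp hrq)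
  have hI : p ^ (I - 1) ≤ n - 1 := by
    have := Nat.pow_pred_clog_lt_self hp.one_lt (show 1 < n by omega)
    exact Nat.le_sub_one_of_lt this
  set e0 : Matrix (Fin n) (Fin n) F := Matrix.single ⟨0, by omega⟩ ⟨0, by omega⟩ 1 with he0
  have he0' : e0 * e0 = e0 := by rw [he0]; simp
  have he0s : (e0.map s)ᵀ = e0 := by rw [he0]; simp
  have he00 : e0 ≠ 0 := fun h => by
    have := congrFun (congrFun h ⟨0, by omega⟩) ⟨0, by omega⟩
    simp [he0] at this
  have he01 : e0 ≠ 1 := fun h => by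
    have := congrFun (congrFun h ⟨1, by omega⟩) ⟨1, by omega⟩
    simp [he0] at this
  have hmul : ∀ (g ξ : Cfsg.PSU n F q), orderOf ξ = r → Commute g ξ → ¬ r ∣ orderOf g →
      orderOf (g * ξ) = r * orderOf g := fun g ξ hξ hc hg => by
    rw [hc.orderOf_mul_eq_mul_orderOf_of_coprime (by
      rw [hξ]; exact (hr.coprime_iff_not_dvd.mpr hg).symm), hξ, mul_comm]
  obtain ⟨ξ, hξ, -⟩ := exists_commute_orderOf_SU hr hrq hrn hF hn hs' (1 : Cfsg.SU n F q) e0 he0'
    (Commute.one_right _) he0s he00 he01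
  obtain ⟨U, hU1, hU2⟩ := exists_regular_unipotent (k := n) hF hs' (by omega)
  have hUo : orderOf (QuotientGroup.mk U : Cfsg.PSU n F q) = p ^ I :=
    unipotent_order p hF hn U ⟨n, hU1⟩ fun h => hU2 (pow_eq_zero_of_le hI h)
  obtain ⟨τ, hτ⟩ := exists_uSinger (n := n) hF p hs' hn
  refine absorb_one (r := r) m (u₀ := p ^ I) (c := uSinger q n)
    ((hp.coprime_iff_not_dvd.mpr (not_dvd_uSinger hp ha hq (by omega))).pow_left I) (fun g hg => ?_)
    hξ hUo.symm.dvd hτ (P := ¬ ∃ j : ℕ, n - 1 = p ^ j) fun hnp => ?_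
  · obtain ⟨A, rfl⟩ := QuotientGroup.mk_surjective g
    by_cases hind : ∀ e : Matrix (Fin n) (Fin n) F, e * e = e → Commute e A.1.1 → (e.map s)ᵀ = e → e = 0 ∨ e = 1
    · right
      obtain ⟨t, ht⟩ := scalar_of_indecomposable hF p (by omega) A hs' hind
      refine orderOf_dvd_of_pow_eq_one ?_
      rw [← QuotientGroup.mk_pow]
      refine (mk_eq_one_iff_SU hF hn _).mpr ⟨t, ?_⟩
      rw [SubmonoidClass.coe_pow, Matrix.SpecialLinearGroup.coe_pow]
      exact ht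
    · left
      push Not at hind
      obtain ⟨e, h1, h2, h3, h4, h5⟩ := hind
      obtain ⟨x, hx, hc⟩ := exists_commute_orderOf_SU hr hrq hrn hF hn hs' A e h1 h2 h3 h4 h5
      exact ⟨_, hmul _ x hx hc hg⟩
  · obtain ⟨k, rfl⟩ : ∃ k, n = k + 1 := ⟨n - 1, by omega⟩
    obtain ⟨V, hV1, hV2⟩ := exists_regular_unipotent (k := k) hF hs' (by omega)
    let B : Cfsg.SU (k + 1) F q := ⟨⟨CfsgLib.UnitaryOrder.ext1 V.1.1, by rw [det_ext1]; exact V.1.2⟩, fun u v => by
      show Cfsg.hermForm (k + 1) F q (CfsgLib.UnitaryOrder.ext1 V.1.1 *ᵥ u) (CfsgLib.UnitaryOrder.ext1 V.1.1 *ᵥ v) = _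
      have h : Cfsg.hermForm k F q (V.1.1 *ᵥ Fin.tail u) (V.1.1 *ᵥ Fin.tail v) =
          Cfsg.hermForm k F q (Fin.tail u) (Fin.tail v) := V.2 _ _
      rw [CfsgLib.UnitaryOrder.ext1_mulVec, CfsgLib.UnitaryOrder.ext1_mulVec, CfsgLib.UnitaryOrder.herm_cons, h,
        ← CfsgLib.UnitaryOrder.herm_cons, Fin.cons_self_tail, Fin.cons_self_tail]⟩
    have hzero : ∀ j, 0 < j → ((B.1.1 - 1) ^ j = 0 ↔ (V.1.1 - 1) ^ j = 0) := by
      intro j hj
      obtain ⟨j, rfl⟩ : ∃ i, j = i + 1 := ⟨j - 1, by omega⟩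
      constructor
      · intro h
        refine Matrix.ext_of_mulVec_single fun i => ?_
        have := ext1_sub_one_pow V.1.1 j (Fin.cons 0 (Pi.single i 1))
        rw [show CfsgLib.UnitaryOrder.ext1 V.1.1 = B.1.1 from rfl, h, zero_mulVec, Fin.tail_cons] at this
        rw [zero_mulVec]
        funext x
        have hx := congrFun this x.succ
        simpa using hx.symm
      · intro h
        refine Matrix.ext_of_mulVec_single fun i => ?_
        rw [show B.1.1 = CfsgLib.UnitaryOrder.ext1 V.1.1 from rfl, ext1_sub_one_pow, h, zero_mulVec, zero_mulVec]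
        exact Fin.cons_self_tail (0 : Fin (k + 1) → F)
    have hBo : orderOf (QuotientGroup.mk B : Cfsg.PSU (k + 1) F q) = p ^ I := by
      refine unipotent_order p hF hn B ⟨k, (hzero k (by omega)).mpr hV1⟩ fun h => hV2 ?_
      have hne : p ^ (I - 1) ≠ k := fun e => hnp ⟨I - 1, by omega⟩
      exact pow_eq_zero_of_le (show p ^ (I - 1) ≤ k - 1 by omega) ((hzero _ (pow_pos hp.pos _)).mp h)
    have hcomm : Commute e0 B.1.1 := by
      rw [he0, show ((⟨0, by omega⟩ : Fin (k + 1))) = 0 from rfl]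
      show _ * _ = _ * _
      ext i j
      refine Fin.cases ?_ (fun i => ?_) i <;> refine Fin.cases ?_ (fun j => ?_) j <;>
        simp [B, CfsgLib.UnitaryOrder.ext1, Matrix.mul_apply, Fin.sum_univ_succ, Matrix.single_apply, Fin.succ_ne_zero, (Fin.succ_ne_zero _).symm]
    obtain ⟨x, hx, hc⟩ := exists_commute_orderOf_SU hr hrq hrn hF hn hs' B e0 he0' hcomm he0s he00 he01
    refine ⟨_, dvd_trans ?_ (hmul _ x hx hc ?_).symm.dvd⟩
    · rw [hBo]
    · rw [hBo]; exact fun h => hrp (hr.dvd_of_dvd_pow h)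

end CfsgLib.SpectrumPowers
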