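/-
Orders of symplectic elements of odd order without invariant orthogonal decomposition.
-/
import Cfsg.Agent.Lib.SpectrumPowers.UnitaryBound
import Cfsg.Agent.Lib.SemisimpleCount.Symplectic

set_option maxHeartbeats 1000000

namespace CfsgLib.SpectrumPowers

open Polynomial Matrix

/-- A bound on the order from the roots of the characteristic polynomial. -/
theorem pow_eq_one_of_roots {Ω : Type*} [Field Ω] [DecidableEq Ω] [IsAlgClosed Ω] (p : ℕ) [Fact p.Prime] [CharP Ω p]
    {ι : Type*} [Fintype ι] [DecidableEq ι] [Nonempty ι] (A : Matrix ι ι Ω) {M e : ℕ} (hM : 0 < M)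
    (h : ∀ t ∈ A.charpoly.roots, t ^ M = 1 ∧ A.charpoly.roots.count t ≤ e) :
    A ^ (p ^ Nat.clog p e * M) = 1 := by
  classical
  have hp : p.Prime := Fact.out
  set Q : Polynomial Ω := X ^ M - C 1 with hQdef
  have hne : Q ≠ 0 := X_pow_sub_C_ne_zero hM 1
  have hdvd : A.charpoly ∣ Q ^ e := by
    refine (IsAlgClosed.splits _).dvd_of_roots_le_roots (Matrix.charpoly_monic A).ne_zero ?_
    rw [Multiset.le_iff_count]
    intro t
    by_cases ht : t ∈ A.charpoly.roots
    · rw [Polynomial.roots_pow, Multiset.count_nsmul]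
      have h1 : 1 ≤ Q.roots.count t := Multiset.one_le_count_iff_mem.mpr
        ((mem_roots hne).mpr (by simp [hQdef, (h t ht).1]))
      exact (h t ht).2.trans (Nat.le_mul_of_pos_right e h1)
    · rw [Multiset.count_eq_zero.mpr ht]; exact Nat.zero_le _
  obtain ⟨R, hR⟩ := hdvd
  have h0 : (A ^ M - 1) ^ e = 0 := by
    have := congrArg (aeval A) hR
    rw [map_mul, Matrix.aeval_self_charpoly, zero_mul, hQdef, map_pow, map_sub, map_pow, aeval_X, map_one] at this
    simpa using this
  haveI : CharP (Matrix ι ι Ω) p :=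
    charP_of_injective_algebraMap (algebraMap Ω (Matrix ι ι Ω)).injective p
  have h1 := pow_eq_zero_of_le (Nat.le_pow_clog hp.one_lt e) h0
  rw [sub_pow_char_pow_of_commute (p := p) _ (Commute.one_right _), one_pow, sub_eq_zero, ← pow_mul,
    mul_comm] at h1
  exact h1

/-- The roots of the reversed product. -/
theorem roots_reverse_prod {K : Type*} [Field K] (s : Multiset K) (hs : (0 : K) ∉ s) :
    ((s.map fun t => X - C t).prod).reverse.roots = s.map (·⁻¹) := by
  induction s using Multiset.induction with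
  | empty => rw [Multiset.map_zero, Multiset.prod_zero, ← C_1, reverse_C, roots_C, Multiset.map_zero]
  | cons t s ih =>
    simp only [Multiset.mem_cons, not_or] at hs
    have ht : t ≠ 0 := Ne.symm hs.1
    have hrev : (X - C t).reverse = C (-t) * (X - C t⁻¹) := by
      rw [reverse, natDegree_X_sub_C]
      ext i
      rw [coeff_reflect, coeff_C_mul]
      rcases i with _ | _ | i
      · simp [revAt_le]
        rw [mul_inv_cancel₀ ht]
      · simp [revAt_le, coeff_X, coeff_C]
      · rw [show revAt 1 (i + 1 + 1) = i + 1 + 1 by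
          show (if i + 1 + 1 ≤ 1 then 1 - (i + 1 + 1) else i + 1 + 1) = _
          rw [if_neg (by omega)]]
        simp [coeff_X, coeff_C]
    have hne : (s.map fun t => X - C t).prod ≠ 0 := (monic_multiset_prod_of_monic _ _ fun t _ => monic_X_sub_C t).ne_zero
    rw [Multiset.map_cons, Multiset.prod_cons, reverse_mul_of_domain, roots_mul, hrev, roots_C_mul _ (neg_ne_zero.mpr ht),
      roots_X_sub_C, ih hs.2, Multiset.map_cons, Multiset.singleton_add]
    exact mul_ne_zero (by simpa using X_sub_C_ne_zero t) (by simpa using hne)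

variable {F : Type*} [Field F] [Fintype F] {n : ℕ}

theorem symp_dichotomy (hn : 0 < n) (p a : ℕ) [Fact p.Prime] [CharP F p] (hF : Fintype.card F = p ^ a)
    (ha : 1 ≤ a) (A : Matrix.symplecticGroup (Fin n) F) (hA : Odd (orderOf A))
    (hind : ∀ e : Matrix (Fin n ⊕ Fin n) (Fin n ⊕ Fin n) F, e * e = e → Commute e A.1 →
      e * Matrix.J (Fin n) F = Matrix.J (Fin n) F * eᵀ → e = 0 ∨ e = 1) :
    orderOf A ∣ p ^ Nat.clog p (n + n) ∨
      ∃ j e M : ℕ, j * e = n ∧ Odd M ∧ (M ∣ Fintype.card F ^ j + 1 ∨ M ∣ Fintype.card F ^ j - 1) ∧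
        orderOf A ∣ p ^ Nat.clog p e * M := by
  classical
  have hp : p.Prime := Fact.out
  haveI : Nonempty (Fin n ⊕ Fin n) := ⟨Sum.inl ⟨0, hn⟩⟩
  set q := Fintype.card F with hq
  set o := orderOf A with ho
  have ho0 : 0 < o := orderOf_pos A
  obtain ⟨i, L, hL, hord⟩ := Nat.exists_eq_pow_mul_and_not_dvd ho0.ne' p hp.ne_one
  have hLodd : Odd L := Odd.of_dvd_nat hA ⟨p ^ i, by rw [hord, mul_comm]⟩
  have hL0 : 0 < L := hLodd.pos
  let Ω := AlgebraicClosure F
  set ι := algebraMap F Ω with hι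
  haveI : CharP Ω p := charP_of_injective_algebraMap ι.injective p
  set fr : Ω →+* Ω := iterateFrobenius Ω p a with hfr
  have hfrx : ∀ x : Ω, fr x = x ^ q := fun x => by rw [hfr, iterateFrobenius_def, hF]
  have hfrι : ∀ x : F, fr (ι x) = ι x := fun x => by rw [hfrx, ← map_pow, hq, FiniteField.pow_card]
  set Ab := A.1.map ι with hAb
  have hmapinj : Function.Injective fun M : Matrix (Fin n ⊕ Fin n) (Fin n ⊕ Fin n) F => M.map ι :=
    Matrix.map_injective ι.injective
  have hAo : Ab ^ o = 1 := by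
    rw [hAb, ← Matrix.map_pow, ← SubmonoidClass.coe_pow, ho, pow_orderOf_eq_one]
    exact Matrix.map_one ι (map_zero ι) (map_one ι)
  set R := Ab.charpoly.roots with hR
  have hmem : ∀ {t}, t ∈ R ↔ t ∈ spectrum Ω Ab := fun {t} => by
    rw [hR, mem_roots (Matrix.charpoly_monic _).ne_zero, Matrix.mem_spectrum_iff_isRoot_charpoly]
  have hRL : ∀ t ∈ R, t ^ L = 1 := fun t ht => by
    have h := spectrum.subset_polynomial_aeval Ab (X ^ o) ⟨t, hmem.mp ht, rfl⟩
    rw [map_pow, aeval_X, hAo, spectrum.one_eq, Set.mem_singleton_iff] at h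
    simp only [eval_pow, eval_X] at h
    rwa [hord, ExpChar.pow_prime_pow_mul_eq_one_iff] at h
  obtain ⟨c, hc1, hc2⟩ := Nat.chineseRemainder (Nat.Coprime.pow_left i (hp.coprime_iff_not_dvd.mpr hL)) 0 1
  set Sb := Ab ^ c with hSb
  have hSL : Sb ^ L = 1 := by
    obtain ⟨k, hk⟩ : o ∣ c * L := by
      rw [hord]; exact Nat.mul_dvd_mul_right (Nat.modEq_zero_iff_dvd.mp hc1) L
    rw [hSb, ← pow_mul, hk, pow_mul, hAo, one_pow]
  have hRS : ∀ t ∈ R, t ∈ Sb.charpoly.roots := fun t ht => by
    rw [mem_roots (Matrix.charpoly_monic _).ne_zero, ← Matrix.mem_spectrum_iff_isRoot_charpoly]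
    have h := spectrum.subset_polynomial_aeval Ab (X ^ c) ⟨t, hmem.mp ht, rfl⟩
    rw [map_pow, aeval_X] at h
    simp only [eval_pow, eval_X] at h
    have e : t ^ c = t ^ 1 := by
      rw [pow_eq_pow_mod c (hRL t ht), hc2, ← pow_eq_pow_mod 1 (hRL t ht)]
    rwa [e, pow_one] at h
  have hLΩ : (L : Ω) ≠ 0 := by rwa [Ne, CharP.cast_eq_zero_iff Ω p]
  have hcardR : Multiset.card R = n + n := by
    rw [hR, IsAlgClosed.card_roots_eq_natDegree, Matrix.charpoly_natDegree_eq_dim, Fintype.card_sum, Fintype.card_fin]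
  obtain ⟨t0, ht0⟩ : ∃ t, t ∈ R := Multiset.card_pos_iff_exists_mem.mp (by omega)
  have ht0L := hRL t0 ht0
  have hne0 : ∀ t : Ω, t ^ L = 1 → t ≠ 0 := fun t ht h => by
    rw [h, zero_pow hL0.ne'] at ht; exact zero_ne_one ht
  -- the orbit
  have hqL : Nat.Coprime q L := by rw [hF]; exact (hp.coprime_iff_not_dvd.mpr hL).pow_left a
  set d := L.totient
  have hd0 : 0 < d := Nat.totient_pos.mpr hL0
  have hper : ∀ t : Ω, t ^ L = 1 → t ^ q ^ d = t := fun t ht => by
    have h : t ^ q ^ d = t ^ 1 := by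
      rw [pow_eq_pow_mod _ ht, Nat.ModEq.pow_totient hqL, ← pow_eq_pow_mod 1 ht]
    rwa [pow_one] at h
  let Orb : Ω → Prop := fun μ => ∃ k : ℕ, μ = t0 ^ q ^ k ∨ μ = (t0 ^ q ^ k)⁻¹
  have hOinv : ∀ μ, Orb μ → Orb μ⁻¹ := fun μ ⟨k, hk⟩ => ⟨k, by
    rcases hk with rfl | rfl
    · exact Or.inr rfl
    · exact Or.inl (inv_inv _)⟩
  have hOpow : ∀ μ k, Orb μ → Orb (μ ^ q ^ k) := fun μ k ⟨l, hl⟩ => ⟨l + k, by
    rcases hl with rfl | rfl
    · exact Or.inl (by rw [← pow_mul, ← pow_add])
    · exact Or.inr (by rw [inv_pow, ← pow_mul, ← pow_add])⟩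
  have hprev : ∀ t : Ω, t ^ L = 1 → (t ^ q ^ (d - 1)) ^ q = t := fun t ht => by
    rw [← pow_mul, ← pow_succ, Nat.sub_add_cancel hd0, hper t ht]
  let f : Ω → Ω := fun μ => if Orb μ then 1 else 0
  set S' := (Polynomial.nthRootsFinset L (1 : Ω)) with hS'
  have hS'mem : ∀ {t}, t ∈ S' ↔ t ^ L = 1 := fun {t} => Polynomial.mem_nthRootsFinset hL0 _
  set P := Lagrange.interpolate S' id f with hP
  have hPev : ∀ t : Ω, t ^ L = 1 → P.eval t = f t := fun t ht =>
    Lagrange.eval_interpolate_at_node f (Set.injOn_id _) (hS'mem.mpr ht)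
  have hev : ∀ Q Q' : Polynomial Ω, (∀ t : Ω, t ^ L = 1 → Q.eval t = Q'.eval t) → aeval Sb Q = aeval Sb Q' :=
    fun Q Q' h => aeval_eq_aeval hLΩ hSL fun t ht => h t (eigen_pow hLΩ hSL ht)
  set eO := aeval Sb P with heO
  have hfix : eO.map fr = eO := by
    have h1 : ∀ Q : Polynomial Ω, (aeval Sb Q).map fr = aeval Sb (Q.map fr) := fun Q => by
      have hS : Sb.map fr = Sb := by
        rw [hSb, Matrix.map_pow, hAb]
        congr 1
        ext x y
        exact hfrι _
      induction Q using Polynomial.induction_on' with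
      | add Q Q' h h' => rw [map_add, Matrix.map_add fr (map_add fr), h, h', Polynomial.map_add, map_add]
      | monomial k x =>
        rw [aeval_monomial, Polynomial.map_monomial, aeval_monomial, ← Algebra.smul_def, ← Algebra.smul_def]
        conv_rhs => rw [← hS, ← Matrix.map_pow]
        ext u v
        simp
    rw [heO, h1]
    refine hev _ _ fun t ht => ?_
    have hs : (t ^ q ^ (d - 1)) ^ L = 1 := by rw [← pow_mul, mul_comm, pow_mul, ht, one_pow]
    have e1 : (P.map fr).eval t = f (t ^ q ^ (d - 1)) ^ q := by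
      conv_lhs => rw [← hprev t ht, ← hfrx]
      rw [eval_map, eval₂_hom, hPev _ hs, hfrx]
    rw [e1, hPev t ht]
    have hiff : Orb (t ^ q ^ (d - 1)) ↔ Orb t := ⟨fun h => by
      have := hOpow _ 1 h
      rwa [pow_one, hprev t ht] at this, hOpow t _⟩
    have hq0 : q ≠ 0 := Fintype.card_ne_zero
    simp only [f, hiff]
    split_ifs <;> simp [hq0]
  have hrat : ∀ x y, ∃ z : F, ι z = eO x y := fun x y => by
    refine mem_of_pow_eq _ ?_
    rw [← hq, ← hfrx]
    exact congrFun (congrFun hfix x) y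
  choose e0 he0 using hrat
  set e : Matrix (Fin n ⊕ Fin n) (Fin n ⊕ Fin n) F := Matrix.of e0
  have hee : e.map ι = eO := by ext x y; exact he0 x y
  have hid : e * e = e := hmapinj (by
    show (e * e).map ι = e.map ι
    rw [Matrix.map_mul, hee, heO, ← map_mul]
    exact hev _ _ fun t ht => by rw [eval_mul, hPev t ht]; simp only [f]; split_ifs <;> simp)
  have hcom : Commute e A.1 := hmapinj (by
    show (e * A.1).map ι = (A.1 * e).map ι
    rw [Matrix.map_mul, Matrix.map_mul, hee, heO, ← hAb]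
    exact (Algebra.commute_of_mem_adjoin_singleton_of_commute (aeval_mem_adjoin_singleton Ω Sb)
      ((Commute.refl Ab).pow_right c)).eq.symm)
  have hsa : e * Matrix.J (Fin n) F = Matrix.J (Fin n) F * eᵀ := hmapinj (by
    show (e * Matrix.J (Fin n) F).map ι = (Matrix.J (Fin n) F * eᵀ).map ι
    set Jb := (Matrix.J (Fin n) F).map ι with hJb
    have h1 : Sb * Jb * Sbᵀ = Jb := by
      have h := congrArg (fun M : Matrix (Fin n ⊕ Fin n) (Fin n ⊕ Fin n) F => M.map ι)
        (SymplecticGroup.mem_iff.mp (A ^ c).2)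
      have e : (A ^ c).1.map ι = Sb := by rw [SubmonoidClass.coe_pow, Matrix.map_pow]
      simp only [Matrix.map_mul, Matrix.transpose_map, e, ← hJb] at h
      exact h
    have h2 : SemiconjBy Jb Sbᵀ (Sb ^ (L - 1)) := by
      show Jb * Sbᵀ = Sb ^ (L - 1) * Jb
      conv_rhs => rw [← h1]
      rw [← mul_assoc, ← mul_assoc, ← pow_succ, Nat.sub_add_cancel hL0, hSL, one_mul]
    have h3 : ∀ Q : Polynomial Ω, Jb * (aeval Sb Q)ᵀ = aeval Sb (Q.comp (X ^ (L - 1))) * Jb := fun Q => by
      induction Q using Polynomial.induction_on' with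
      | add Q Q' h h' => rw [map_add, transpose_add, mul_add, h, h', add_comp, map_add, add_mul]
      | monomial k x =>
        rw [aeval_monomial, monomial_comp, map_mul, map_pow, map_pow, aeval_X, aeval_C, ← Algebra.smul_def,
          ← Algebra.smul_def, transpose_smul, transpose_pow, Matrix.mul_smul, (h2.pow_right k).eq, Matrix.smul_mul]
    rw [Matrix.map_mul, Matrix.map_mul, Matrix.transpose_map, hee, ← hJb, heO, h3]
    congr 1
    refine hev _ _ fun t ht => ?_
    have hti : t ^ (L - 1) = t⁻¹ := eq_inv_of_mul_eq_one_left (by rw [← pow_succ, Nat.sub_add_cancel hL0, ht])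
    rw [eval_comp, eval_pow, eval_X, hti, hPev t ht, hPev t⁻¹ (by rw [inv_pow, ht, inv_one])]
    have hiff : Orb t⁻¹ ↔ Orb t := ⟨fun h => by have := hOinv _ h; rwa [inv_inv] at this, hOinv t⟩
    simp only [f, hiff])
  have horb : ∀ t ∈ R, Orb t := by
    rcases hind e hid hcom hsa with h | h
    · exfalso
      have h1 : aeval Sb P = 0 := by rw [← heO, ← hee, h, Matrix.map_zero ι (map_zero ι)]
      have := (aeval_eq_zero_iff' hLΩ hSL _).mp h1 t0 (hRS t0 ht0)
      rw [hPev t0 ht0L] at this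
      simp only [f, if_pos (show Orb t0 from ⟨0, Or.inl (by simp)⟩)] at this
      exact one_ne_zero this
    · intro μ hμ
      have h1 : aeval Sb P = aeval Sb (1 : Polynomial Ω) := by
        rw [← heO, ← hee, h, Matrix.map_one ι (map_zero ι) (map_one ι), map_one]
      have := (aeval_eq_zero_iff' hLΩ hSL (P - 1)).mp (by rw [map_sub, h1, sub_self]) μ (hRS μ hμ)
      rw [eval_sub, hPev μ (hRL μ hμ), eval_one, sub_eq_zero] at this
      by_contra hno
      simp only [f, if_neg hno] at this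
      exact zero_ne_one this
  -- conclusion from a bound
  have hbound : ∀ M k : ℕ, 0 < M → (∀ t ∈ R, t ^ M = 1 ∧ R.count t ≤ k) → o ∣ p ^ Nat.clog p k * M :=
    fun M k hM h => by
    refine orderOf_dvd_of_pow_eq_one (Subtype.ext (hmapinj ?_))
    show (A ^ _).1.map ι = (1 : Matrix (Fin n ⊕ Fin n) (Fin n ⊕ Fin n) F).map ι
    rw [SubmonoidClass.coe_pow, Matrix.map_pow, Matrix.map_one ι (map_zero ι) (map_one ι)]
    exact pow_eq_one_of_roots p Ab hM h
  by_cases h1 : t0 = 1
  · left
    have h := hbound 1 (n + n) one_pos fun t ht => ⟨by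
      obtain ⟨k, hk⟩ := horb t ht
      rw [pow_one]
      rcases hk with rfl | rfl <;> simp [h1],
      hcardR ▸ Multiset.count_le_card t R⟩
    rwa [mul_one] at h
  right
  have hinj : ∀ k, Function.Injective fun x : Ω => x ^ q ^ k := fun k x y h => by
    refine (iterateFrobenius Ω p (a * k)).injective ?_
    simp only [iterateFrobenius_def, pow_mul, ← hF]
    exact h
  have hrotq : ∀ t, R.count (t ^ q) = R.count t := fun t => by
    have e : R.map fr = R := by
      have h := (IsAlgClosed.splits Ab.charpoly).roots_map fr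
      rw [← Matrix.charpoly_map, show Ab.map fr = Ab by ext x y; exact hfrι _] at h
      exact h.symm
    conv_lhs => rw [← e, ← hfrx]
    exact Multiset.count_map_eq_count' _ _ fr.injective t
  have hrot : ∀ k t, R.count (t ^ q ^ k) = R.count t := by
    intro k
    induction k with
    | zero => simp
    | succ k ih => intro t; rw [pow_succ, pow_mul, hrotq, ih]
  have hroti : ∀ t, R.count t⁻¹ = R.count t := fun t => by
    have e : R.map (·⁻¹) = R := by
      rw [← roots_reverse_prod R (fun h => hne0 0 (hRL 0 h) rfl), hR,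
        ← (IsAlgClosed.splits Ab.charpoly).eq_prod_roots_of_monic (Matrix.charpoly_monic _)]
      congr 1
      ext k
      rw [coeff_reverse, Matrix.charpoly_natDegree_eq_dim, Fintype.card_sum, Fintype.card_fin]
      rcases le_or_gt k (n + n) with hk | hk
      · rw [revAt_le hk, hAb, Matrix.charpoly_map, coeff_map, coeff_map, ← CfsgLib.SemisimpleCount.charpoly_sym A hk]
      · rw [show revAt (n + n) k = k by
          show (if k ≤ n + n then n + n - k else k) = k
          rw [if_neg (by omega)]]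
    conv_lhs => rw [← e]
    exact Multiset.count_map_eq_count' _ _ inv_injective t
  set m := R.count t0
  have hmorb : ∀ μ, Orb μ → R.count μ = m := fun μ ⟨k, hk⟩ => by
    rcases hk with rfl | rfl
    · exact hrot k t0
    · rw [hroti, hrot]
  have hm0 : 0 < m := Multiset.count_pos.mpr ht0
  have hex : ∃ k, 0 < k ∧ t0 ^ q ^ k = t0 := ⟨d, hd0, hper t0 ht0L⟩
  set d0 := Nat.find hex
  obtain ⟨hd00, hd0per⟩ := Nat.find_spec hex
  have hperk : ∀ k l, t0 ^ q ^ (k + l * d0) = t0 ^ q ^ k := by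
    intro k l
    induction l with
    | zero => simp
    | succ l ih =>
      rw [show k + (l + 1) * d0 = d0 + (k + l * d0) by ring, pow_add, pow_mul, hd0per, ih]
  have hmod : ∀ k, t0 ^ q ^ k = t0 ^ q ^ (k % d0) := fun k => by
    conv_lhs => rw [← Nat.mod_add_div' k d0]
    exact hperk _ _
  have hmin : ∀ k, t0 ^ q ^ k = t0 → d0 ∣ k := fun k hk => by
    by_contra hnd
    exact Nat.find_min hex (Nat.mod_lt k hd00) ⟨Nat.pos_of_ne_zero fun h => hnd (Nat.dvd_of_mod_eq_zero h),
      (hmod k).symm.trans hk⟩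
  set O1 := (Finset.range d0).image fun k => t0 ^ q ^ k with hO1
  have hO1card : O1.card = d0 := by
    rw [hO1, Finset.card_image_of_injOn, Finset.card_range]
    intro x hx y hy hxy
    simp only [Finset.coe_range, Set.mem_Iio] at hx hy
    by_contra hne
    rcases lt_or_gt_of_ne hne with hlt | hlt
    · have : t0 ^ q ^ (y - x) = t0 := hinj x (by
        show (t0 ^ q ^ (y - x)) ^ q ^ x = t0 ^ q ^ x
        rw [← pow_mul, ← pow_add, Nat.sub_add_cancel hlt.le]; exact hxy.symm)
      have := Nat.le_of_dvd (by omega) (hmin _ this)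
      omega
    · have : t0 ^ q ^ (x - y) = t0 := hinj y (by
        show (t0 ^ q ^ (x - y)) ^ q ^ y = t0 ^ q ^ y
        rw [← pow_mul, ← pow_add, Nat.sub_add_cancel hlt.le]; exact hxy)
      have := Nat.le_of_dvd (by omega) (hmin _ this)
      omega
  have hO1orb : ∀ μ ∈ O1, Orb μ := fun μ hμ => by
    obtain ⟨k, -, rfl⟩ := Finset.mem_image.mp hμ
    exact ⟨k, Or.inl rfl⟩
  have hO1mem : ∀ k, t0 ^ q ^ k ∈ O1 := fun k =>
    Finset.mem_image.mpr ⟨k % d0, Finset.mem_range.mpr (Nat.mod_lt k hd00), (hmod k).symm⟩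
  have hcount : ∀ O : Finset Ω, (∀ μ, μ ∈ O ↔ Orb μ) → O.card * m = n + n := fun O hO => by
    have e : R.toFinset = O := Finset.ext fun μ => by
      rw [Multiset.mem_toFinset, hO]
      exact ⟨horb μ, fun h => Multiset.count_pos.mp (by rw [hmorb μ h]; exact hm0)⟩
    rw [← hcardR, ← Multiset.toFinset_sum_count_eq, e, Finset.sum_congr rfl fun μ hμ => hmorb μ ((hO μ).mp hμ),
      Finset.sum_const, smul_eq_mul]
  have hfinish : ∀ N, t0 ^ N = 1 → o ∣ p ^ Nat.clog p m * Nat.gcd L N := fun N hN =>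
    hbound _ m (Nat.gcd_pos_of_pos_left _ hL0) fun t ht => ⟨pow_gcd_eq_one.mpr ⟨hRL t ht, by
      obtain ⟨k, hk⟩ := horb t ht
      have e : (t0 ^ q ^ k) ^ N = 1 := by rw [← pow_mul, mul_comm, pow_mul, hN, one_pow]
      rcases hk with rfl | rfl
      · exact e
      · rw [inv_pow, e, inv_one]⟩, (hmorb t (horb t ht)).le⟩
  have hne : t0⁻¹ ≠ t0 := fun h => h1 (by
    have h2 : t0 ^ 2 = 1 := by
      conv_lhs => rw [sq]; arg 1; rw [← h]
      exact inv_mul_cancel₀ (hne0 t0 ht0L)
    obtain ⟨k, hk⟩ := hLodd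
    rw [hk, pow_succ, pow_mul, h2, one_pow, one_mul] at ht0L
    exact ht0L)
  by_cases hself : ∃ k, k < d0 ∧ t0 ^ q ^ k = t0⁻¹
  · obtain ⟨k, hk, hk'⟩ := hself
    have hk0 : k ≠ 0 := fun h => hne (by rw [← hk', h, pow_zero, pow_one])
    have h2k : d0 ∣ k + k := hmin _ (by rw [pow_add, pow_mul, hk', inv_pow, hk', inv_inv])
    obtain ⟨l, hl⟩ := h2k
    have hl1 : l = 1 := by
      have h1 : d0 * l < d0 * 2 := by omega
      have := Nat.lt_of_mul_lt_mul_left h1
      rcases l with _ | _ | l <;> omega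
    subst hl1
    refine ⟨k, m, Nat.gcd L (q ^ k + 1), ?_, Odd.of_dvd_nat hLodd (Nat.gcd_dvd_left _ _),
      Or.inl (Nat.gcd_dvd_right _ _), hfinish _ (by rw [pow_succ, hk', inv_mul_cancel₀ (hne0 t0 ht0L)])⟩
    have := hcount O1 fun μ => ⟨hO1orb μ, fun ⟨l, hl⟩ => by
      rcases hl with rfl | rfl
      · exact hO1mem l
      · rw [← inv_pow, ← hk', ← pow_mul, ← pow_add]; exact hO1mem _⟩
    rw [hO1card] at this
    have e2 : d0 = k + k := by omega
    rw [e2, add_mul] at this
    omega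
  · refine ⟨d0, m, Nat.gcd L (q ^ d0 - 1), ?_, Odd.of_dvd_nat hLodd (Nat.gcd_dvd_left _ _),
      Or.inr (Nat.gcd_dvd_right _ _), hfinish _ ?_⟩
    · have hdisj : Disjoint O1 (O1.image (·⁻¹)) := Finset.disjoint_left.mpr fun μ hμ hμ' => by
        obtain ⟨x, hx, rfl⟩ := Finset.mem_image.mp hμ
        obtain ⟨ν, hν, hν'⟩ := Finset.mem_image.mp hμ'
        obtain ⟨y, hy, rfl⟩ := Finset.mem_image.mp hν
        simp only [Finset.mem_range] at hx hy
        refine hself ⟨(x + (d0 - y)) % d0, Nat.mod_lt _ hd00, ?_⟩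
        rw [← hmod, pow_add, pow_mul]
        have hν2 : (t0 ^ q ^ y)⁻¹ = t0 ^ q ^ x := hν'
        rw [← hν2, inv_pow, ← pow_mul, ← pow_add, Nat.add_sub_cancel' hy.le, hd0per]
      have := hcount (O1 ∪ O1.image (·⁻¹)) fun μ => by
        rw [Finset.mem_union]
        constructor
        · rintro (h | h)
          · exact hO1orb μ h
          · obtain ⟨ν, hν, rfl⟩ := Finset.mem_image.mp h
            exact hOinv _ (hO1orb ν hν)
        · rintro ⟨l, rfl | rfl⟩
          · exact Or.inl (hO1mem l)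
          · exact Or.inr (Finset.mem_image_of_mem _ (hO1mem l))
      rw [Finset.card_union_of_disjoint hdisj, Finset.card_image_of_injective _ inv_injective, hO1card, add_mul] at this
      omega
    · have e : t0 ^ (q ^ d0 - 1) * t0 = 1 * t0 := by
        rw [← pow_succ, Nat.sub_add_cancel (Nat.one_le_pow _ _ Fintype.card_pos), hd0per, one_mul]
      exact mul_right_cancel₀ (hne0 t0 ht0L) e

end CfsgLib.SpectrumPowers
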