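/-
Elements of prescribed order in projective symplectic groups.
-/
import Cfsg.Agent.Lib.SpectrumPowers.SympBound
import Cfsg.Agent.Lib.SympTransvection
import Cfsg.Agent.Lib.SympBlocks
import Cfsg.Prelude.Def_Classical

set_option maxHeartbeats 1000000

namespace CfsgLib.SpectrumPowers

open Polynomial Matrix

variable {F : Type*} [Field F] [Fintype F] {n : ℕ}

/-- Central symplectic elements. -/
theorem mk_eq_one_iff_Sp (hn : 0 < n) (g : Matrix.symplecticGroup (Fin n) F) :
    (QuotientGroup.mk g : Cfsg.PSp n F) = 1 ↔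
      ∃ t : F, g.1 = Matrix.scalar (Fin n ⊕ Fin n) t ∧ t ^ 2 = 1 := by
  rw [QuotientGroup.eq_one_iff]
  constructor
  · intro h
    obtain ⟨t, ht⟩ := CfsgLib.SympTransvection.scalar_of_central g h
    exact ⟨t, ht, (CfsgLib.SympTransvection.scalar_mem_iff hn t).mp (ht ▸ g.2)⟩
  · rintro ⟨t, ht, -⟩
    refine Subgroup.mem_center_iff.mpr fun x => Subtype.ext ?_
    show x.1 * g.1 = g.1 * x.1
    rw [ht]
    exact (Matrix.scalar_commute t (fun _ => Commute.all _ _) x.1).eq.symm

/-- A divisor of the order survives in the quotient up to a factor 2. -/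
theorem dvd_two_mul_orderOf_mk (hn : 0 < n) (g : Matrix.symplecticGroup (Fin n) F) :
    orderOf g ∣ 2 * orderOf (QuotientGroup.mk g : Cfsg.PSp n F) := by
  refine orderOf_dvd_of_pow_eq_one ?_
  have h : (QuotientGroup.mk (g ^ orderOf (QuotientGroup.mk g : Cfsg.PSp n F)) : Cfsg.PSp n F) = 1 := by
    rw [QuotientGroup.mk_pow, pow_orderOf_eq_one]
  obtain ⟨t, ht, ht2⟩ := (mk_eq_one_iff_Sp hn _).mp h
  rw [mul_comm, pow_mul]
  apply Subtype.ext
  rw [SubmonoidClass.coe_pow, ht, ← map_pow, ht2, map_one]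
  rfl

theorem odd_dvd_orderOf_mk (hn : 0 < n) (g : Matrix.symplecticGroup (Fin n) F) {M : ℕ} (hM : Odd M)
    (h : M ∣ orderOf g) : M ∣ orderOf (QuotientGroup.mk g : Cfsg.PSp n F) :=
  (Nat.coprime_two_right.mpr hM).dvd_of_dvd_mul_left (h.trans (dvd_two_mul_orderOf_mk hn g))

/-- An element of order divisible by a given divisor of `q^j ± 1`. -/
theorem exists_torus (p a : ℕ) [Fact p.Prime] [CharP F p] (hF : Fintype.card F = p ^ a) (ha : 1 ≤ a)
    {j N : ℕ} (hj : 0 < j) (hN : 0 < N)
    (h : N ∣ Fintype.card F ^ j + 1 ∨ N ∣ Fintype.card F ^ j - 1) :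
    ∃ g : Matrix.symplecticGroup (Fin j) F, N ∣ orderOf g := by
  classical
  have hp : p.Prime := Fact.out
  set q := Fintype.card F with hq
  have hq2 : 2 ≤ q := Fintype.one_lt_card
  let Ω := AlgebraicClosure F
  set ι := algebraMap F Ω with hι
  haveI : CharP Ω p := charP_of_injective_algebraMap ι.injective p
  set fr : Ω →+* Ω := iterateFrobenius Ω p a with hfr
  have hfrx : ∀ x : Ω, fr x = x ^ q := fun x => by rw [hfr, iterateFrobenius_def, hF]
  have hNp : ¬ p ∣ N := by
    intro hd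
    have h1 : p ∣ q ^ j := hF ▸ dvd_pow (dvd_pow_self p (by omega)) hj.ne'
    rcases h with h | h
    · exact hp.not_dvd_one ((Nat.dvd_add_right h1).mp (hd.trans h))
    · have h2 := Nat.one_le_pow j q (by omega)
      exact hp.not_dvd_one ((Nat.dvd_add_right (hd.trans h)).mp (by rwa [Nat.sub_add_cancel h2]))
  haveI : NeZero (N : Ω) := ⟨by rwa [Ne, CharP.cast_eq_zero_iff Ω p]⟩
  obtain ⟨z, hz⟩ := IsAlgClosed.exists_root (cyclotomic N Ω) (by
    rw [degree_cyclotomic]; exact_mod_cast (Nat.totient_pos.mpr hN).ne')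
  have hz' : IsPrimitiveRoot z N := (isRoot_cyclotomic_iff).mp hz
  have hz0 : z ≠ 0 := hz'.ne_zero hN.ne'
  set w : ℕ → Ω := fun i => z ^ q ^ i + (z ^ q ^ i)⁻¹ with hw
  have hwj : w j = w 0 := by
    simp only [hw, pow_zero, pow_one]
    rcases h with ⟨e, he⟩ | ⟨e, he⟩
    · have h1 : z ^ (q ^ j + 1) = 1 := by rw [he, pow_mul, hz'.pow_eq_one, one_pow]
      rw [pow_succ] at h1
      rw [eq_inv_of_mul_eq_one_left h1, inv_inv, add_comm]
    · have h2 := Nat.one_le_pow j q (by omega)
      rw [show q ^ j = (q ^ j - 1) + 1 by omega, pow_succ, he, pow_mul, hz'.pow_eq_one, one_pow, one_mul]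
  have hstep : ∀ i, fr (w i) = w (i + 1) := fun i => by
    simp only [hw]
    rw [map_add, hfrx, hfrx, inv_pow, ← pow_mul, ← pow_succ]
  set PΩ : Polynomial Ω := ∏ i ∈ Finset.range j, (X - C (w i)) with hPΩ
  have hPfix : PΩ.map fr = PΩ := by
    have h1 : ∀ g : ℕ → Polynomial Ω, g j = g 0 → g 0 ≠ 0 →
        ∏ i ∈ Finset.range j, g (i + 1) = ∏ i ∈ Finset.range j, g i := fun g hg hg0 => by
      have e1 := Finset.prod_range_succ' g j
      rw [Finset.prod_range_succ, hg] at e1
      exact (mul_right_cancel₀ hg0 e1).symm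
    rw [hPΩ, Polynomial.map_prod, Finset.prod_congr rfl fun i _ => (by
      rw [Polynomial.map_sub, map_X, map_C, hstep] : (X - C (w i)).map fr = X - C (w (i + 1)))]
    exact h1 (fun i => X - C (w i)) (by simp only [hwj]) (X_sub_C_ne_zero _)
  obtain ⟨P, hP⟩ : ∃ P : F[X], P.map ι = PΩ := by
    have hl : PΩ ∈ lifts ι := (lifts_iff_coeff_lifts _).mpr fun k => by
      refine mem_of_pow_eq _ ?_
      rw [← hq, ← hfrx, ← coeff_map, hPfix]
    exact (mem_lifts _).mp hl
  have hPm : PΩ.Monic := monic_prod_of_monic _ _ fun i _ => monic_X_sub_C _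
  have hmon : P.Monic := monic_of_injective ι.injective (hP ▸ hPm)
  have hdeg : P.natDegree = j := by
    rw [← natDegree_map_eq_of_injective ι.injective P, hP, hPΩ,
      natDegree_prod_of_monic _ _ fun i _ => monic_X_sub_C _]
    simp
  obtain ⟨g, hg⟩ := CfsgLib.SemisimpleCount.exists_symp j P hmon hdeg
  refine ⟨g, ?_⟩
  haveI : Nonempty (Fin j ⊕ Fin j) := ⟨Sum.inl ⟨0, hj⟩⟩
  have hzr : z ∈ spectrum Ω (g.1.map ι) := by
    rw [Matrix.mem_spectrum_iff_isRoot_charpoly, Matrix.charpoly_map, IsRoot, hg Ω ι z hz0, hP, hPΩ, eval_prod,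
      Finset.prod_eq_zero (i := 0) (Finset.mem_range.mpr hj) (by simp [hw]), mul_zero]
  have h2 := spectrum.subset_polynomial_aeval (g.1.map ι) (X ^ orderOf g) ⟨z, hzr, rfl⟩
  have h3 : g.1.map ι ^ orderOf g = 1 := by
    rw [← Matrix.map_pow, ← SubmonoidClass.coe_pow, pow_orderOf_eq_one]
    exact Matrix.map_one ι (map_zero ι) (map_one ι)
  rw [map_pow, aeval_X, h3, spectrum.one_eq, Set.mem_singleton_iff] at h2
  simp only [eval_pow, eval_X] at h2
  exact (hz'.pow_eq_one_iff_dvd _).mp h2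

/-- A regular unipotent element. -/
theorem exists_regular_unipotent_Sp (p : ℕ) [Fact p.Prime] [CharP F p] {k : ℕ} (hk : 1 ≤ k) :
    ∃ g : Matrix.symplecticGroup (Fin k) F, orderOf g = p ^ Nat.clog p (k + k) := by
  classical
  have hp : p.Prime := Fact.out
  haveI : Nonempty (Fin k ⊕ Fin k) := ⟨Sum.inl ⟨0, hk⟩⟩
  set S : Matrix (Fin k) (Fin k) F := Matrix.of fun i j => if i.val + 1 = j.val then (1 : F) else 0 with hS
  set E : Matrix (Fin k) (Fin k) F := Matrix.of fun i j => if i.val + j.val + 1 = k then (1 : F) else 0 with hE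
  have hEt : Eᵀ = E := by
    ext i j
    simp only [hE, transpose_apply, Matrix.of_apply]
    congr 1
    exact propext ⟨fun h => by omega, fun h => by omega⟩
  have hmulE : ∀ (M : Matrix (Fin k) (Fin k) F) (i j : Fin k), (E * M) i j = M i.rev j := fun M i j => by
    rw [Matrix.mul_apply, Finset.sum_eq_single i.rev]
    · rw [hE, Matrix.of_apply, if_pos (by rw [Fin.val_rev]; omega), one_mul]
    · intro b _ hb
      rw [hE, Matrix.of_apply, if_neg (fun h => hb (Fin.ext (by rw [Fin.val_rev]; omega))), zero_mul]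
    · simp
  have hEE : E * E = 1 := by
    ext i j
    rw [hmulE, hE, Matrix.of_apply, Matrix.one_apply]
    simp only [Fin.val_rev, Fin.ext_iff]
    congr 1
    exact propext ⟨fun h => by omega, fun h => by omega⟩
  have hES : (E * S)ᵀ = E * S := by
    ext i j
    rw [transpose_apply, hmulE, hmulE, hS, Matrix.of_apply, Matrix.of_apply]
    simp only [Fin.val_rev]
    congr 1
    exact propext ⟨fun h => by omega, fun h => by omega⟩
  have hST : Sᵀ * E = E * S := by
    rw [← hES, transpose_mul, hEt]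
  set D : Matrix (Fin k) (Fin k) F := (1 + 1 : F) • 1 + S with hD
  have hED : Dᵀ * E = E * D := by
    rw [hD, transpose_add, transpose_smul, transpose_one, add_mul, mul_add, Matrix.smul_mul, Matrix.mul_smul,
      hST, one_mul, mul_one]
  let g : Matrix.symplecticGroup (Fin k) F := ⟨fromBlocks 0 (-E) E D, SymplecticGroup.mem_iff'.mpr (by
    rw [Matrix.J, fromBlocks_transpose, fromBlocks_multiply, fromBlocks_multiply, transpose_neg, hEt,
      transpose_zero]
    simp [hEE, hED])⟩
  refine ⟨g, ?_⟩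
  set Q : Matrix (Fin k ⊕ Fin k) (Fin k ⊕ Fin k) F := fromBlocks (E * S * E) 0 0 S with hQ
  have e1 : E * S * E * E = E * S := by rw [mul_assoc, hEE, mul_one]
  have e2 : E * (E * S * E) = S * E := by rw [← mul_assoc, ← mul_assoc, hEE, one_mul]
  have hgm : g.1 - 1 = fromBlocks (-1) (-E) E (1 + S) := by
    show fromBlocks 0 (-E) E D - 1 = _
    rw [← fromBlocks_one, sub_eq_add_neg, fromBlocks_neg, fromBlocks_add, hD]
    congr 1
    · simp
    · simp
    · simp
    · rw [add_smul, one_smul]; abel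
  have hsq : (g.1 - 1) ^ 2 = g.1 * Q := by
    show _ = fromBlocks 0 (-E) E D * Q
    rw [pow_two, hgm, hQ, fromBlocks_multiply, fromBlocks_multiply, hD]
    congr 1
    · simp [hEE]
    · simp [mul_add]
    · simp [e2, add_mul]
    · simp [hEE, mul_add, add_mul, add_smul]
      abel
  have hcomm : Commute g.1 Q := by
    show fromBlocks 0 (-E) E D * Q = Q * fromBlocks 0 (-E) E D
    rw [hQ, fromBlocks_multiply, fromBlocks_multiply, hD]
    simp [e1, e2, mul_add, add_mul]
  have hSpow : ∀ e : ℕ, ∀ i j : Fin k, (S ^ e) i j = if i.val + e = j.val then 1 else 0 := by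
    intro e
    induction e with
    | zero => intro i j; simp [Matrix.one_apply, Fin.ext_iff]
    | succ e ih =>
      intro i j
      rw [pow_succ, Matrix.mul_apply]
      simp only [ih, ite_mul, one_mul, zero_mul]
      by_cases h : i.val + e < k
      · rw [Finset.sum_eq_single (⟨i.val + e, h⟩ : Fin k), if_pos rfl]
        · simp [hS, Nat.add_assoc]
        · exact fun x _ hx => if_neg fun e' => hx (Fin.ext e'.symm)
        · simp
      · rw [Finset.sum_eq_zero fun x _ => if_neg (by omega), if_neg (by omega)]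
  have hQpow : ∀ e : ℕ, Q ^ e = fromBlocks ((E * S * E) ^ e) 0 0 (S ^ e) := by
    intro e
    induction e with
    | zero => simp [fromBlocks_one]
    | succ e ih => rw [pow_succ, ih, hQ, fromBlocks_multiply]; simp [pow_succ]
  have hESEpow : ∀ e : ℕ, (E * S * E) ^ e = E * S ^ e * E := by
    intro e
    induction e with
    | zero => simp [hEE]
    | succ e ih =>
      rw [pow_succ, ih, pow_succ,
        show E * S ^ e * E * (E * S * E) = E * S ^ e * (E * E) * S * E by simp only [mul_assoc], hEE, mul_one]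
      simp only [mul_assoc]
  have hSk : S ^ k = 0 := by ext i j; rw [hSpow, Matrix.zero_apply, if_neg (by omega)]
  have hnil : (g.1 - 1) ^ (k + k) = 0 := by
    rw [← two_mul, pow_mul, hsq, hcomm.mul_pow, hQpow, hESEpow, hSk]
    simp
  have hne : (g.1 - 1) ^ (k + k - 1) ≠ 0 := by
    intro h0
    rw [show k + k - 1 = 1 + 2 * (k - 1) by omega, pow_add, pow_one, pow_mul, hsq, hcomm.mul_pow,
      ← mul_assoc, show (g.1 - 1) * g.1 ^ (k - 1) = g.1 ^ (k - 1) * (g.1 - 1) from
        (((Commute.refl g.1).sub_left (Commute.one_left _)).pow_right _).eq, mul_assoc] at h0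
    have hu : IsUnit (g.1 ^ (k - 1)) := ((Matrix.isUnit_iff_isUnit_det _).mpr (by
      rw [SymplecticGroup.det_eq_one g.2]; exact isUnit_one)).pow _
    rw [hu.mul_right_eq_zero, hgm, hQpow, fromBlocks_multiply] at h0
    have h1 := congrArg Matrix.toBlocks₁₂ h0
    rw [toBlocks_fromBlocks₁₂, mul_zero, zero_add, Matrix.neg_mul] at h1
    have h2 : S ^ (k - 1) = 0 := by
      have h3 : E * S ^ (k - 1) = 0 := by
        rw [← neg_eq_zero]; exact h1
      calc S ^ (k - 1) = E * (E * S ^ (k - 1)) := by rw [← mul_assoc, hEE, one_mul]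
        _ = 0 := by rw [h3, mul_zero]
    have := congrFun (congrFun h2 ⟨0, by omega⟩) ⟨k - 1, by omega⟩
    rw [hSpow, if_pos (by simp), Matrix.zero_apply] at this
    exact one_ne_zero this
  haveI : CharP (Matrix (Fin k ⊕ Fin k) (Fin k ⊕ Fin k) F) p :=
    charP_of_injective_algebraMap (algebraMap F (Matrix (Fin k ⊕ Fin k) (Fin k ⊕ Fin k) F)).injective p
  have hfrob : ∀ i, (g.1 - 1) ^ p ^ i = (g ^ p ^ i).1 - 1 := fun i => by
    rw [sub_pow_char_pow_of_commute (p := p) _ (Commute.one_right _), one_pow, SubmonoidClass.coe_pow]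
  have h1 : g ^ p ^ Nat.clog p (k + k) = 1 := by
    apply Subtype.ext
    have := pow_eq_zero_of_le (Nat.le_pow_clog hp.one_lt (k + k)) hnil
    rwa [hfrob, sub_eq_zero] at this
  obtain ⟨i, hi, he⟩ := (Nat.dvd_prime_pow hp).mp (orderOf_dvd_of_pow_eq_one h1)
  rcases lt_or_eq_of_le hi with hlt | heq
  · exfalso
    apply hne
    have h2 : (g.1 - 1) ^ p ^ i = 0 := by rw [hfrob, ← he, pow_orderOf_eq_one]; exact sub_self _
    refine pow_eq_zero_of_le ?_ h2
    have h3 : p ^ i < k + k := by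
      have hle : p ^ i ≤ p ^ (Nat.clog p (k + k) - 1) := Nat.pow_le_pow_right hp.pos (by omega)
      refine lt_of_le_of_lt hle (Nat.pow_pred_clog_lt_self hp.one_lt ?_)
      omega
    omega
  · rw [he, heq]

/-- A block diagonal element commuting with an involution. -/
theorem exists_double (hF2 : (2 : F) ≠ 0) {k l : ℕ} (hk : 0 < k) (hl : 0 < l)
    (x : Matrix.symplecticGroup (Fin k) F) (y : Matrix.symplecticGroup (Fin l) F) {M : ℕ} (hM : Odd M)
    (h : M ∣ Nat.lcm (orderOf x) (orderOf y)) :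
    ∃ g : Cfsg.PSp (k + l) F, orderOf g = 2 * M := by
  classical
  have hn : 0 < k + l := by omega
  set g := CfsgLib.SympBlocks.Φ k l (x, y) with hg
  have hgo : M ∣ orderOf (QuotientGroup.mk g : Cfsg.PSp (k + l) F) := by
    refine odd_dvd_orderOf_mk hn g hM ?_
    rwa [hg, orderOf_injective _ CfsgLib.SympBlocks.Φ_injective, Prod.orderOf]
  let m1 : Matrix.symplecticGroup (Fin k) F :=
    ⟨Matrix.scalar _ (-1), (CfsgLib.SympTransvection.scalar_mem_iff hk _).mpr (by ring)⟩
  set X := CfsgLib.SympBlocks.Φ k l (m1, 1) with hX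
  have hm1 : m1 * m1 = 1 := Subtype.ext (by
    show Matrix.scalar _ (-1 : F) * Matrix.scalar _ (-1 : F) = 1
    rw [← map_mul, neg_one_mul, neg_neg, map_one])
  have hm1c : m1 * x = x * m1 := Subtype.ext (by
    show Matrix.scalar _ (-1 : F) * x.1 = x.1 * Matrix.scalar _ (-1 : F)
    exact (Matrix.scalar_commute _ (fun _ => Commute.all _ _) _).eq)
  have hX2 : (QuotientGroup.mk X : Cfsg.PSp (k + l) F) ^ 2 = 1 := by
    rw [← QuotientGroup.mk_pow, hX, ← map_pow]
    rw [show ((m1, 1) : Matrix.symplecticGroup (Fin k) F × Matrix.symplecticGroup (Fin l) F) ^ 2 = 1 by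
      rw [pow_two]; exact Prod.ext hm1 (one_mul 1), map_one]
    rfl
  have hX1 : (QuotientGroup.mk X : Cfsg.PSp (k + l) F) ≠ 1 := by
    intro h1
    obtain ⟨t, ht, -⟩ := (mk_eq_one_iff_Sp hn X).mp h1
    have h2 := congrArg CfsgLib.SympBlocks.blk ht
    rw [hX, CfsgLib.SympBlocks.blk_Φ] at h2
    have ha := congrFun (congrFun h2 (Sum.inl (Sum.inl ⟨0, hk⟩))) (Sum.inl (Sum.inl ⟨0, hk⟩))
    have hb := congrFun (congrFun h2 (Sum.inr (Sum.inl ⟨0, hl⟩))) (Sum.inr (Sum.inl ⟨0, hl⟩))
    simp [m1, CfsgLib.SympBlocks.blk] at ha hb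
    exact hF2 (by linear_combination -ha + hb)
  have hXo : orderOf (QuotientGroup.mk X : Cfsg.PSp (k + l) F) = 2 := orderOf_eq_prime hX2 hX1
  have hc : Commute (QuotientGroup.mk g : Cfsg.PSp (k + l) F) (QuotientGroup.mk X) := by
    show _ * _ = _ * _
    rw [← QuotientGroup.mk_mul, ← QuotientGroup.mk_mul, hg, hX, ← map_mul, ← map_mul]
    congr 2
    exact Prod.ext hm1c.symm (by simp)
  set G := (QuotientGroup.mk g : Cfsg.PSp (k + l) F)
  have hGo : orderOf (G ^ (orderOf G / M)) = M := orderOf_pow_orderOf_div (orderOf_pos G).ne' hgo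
  refine ⟨G ^ (orderOf G / M) * QuotientGroup.mk X, ?_⟩
  rw [(hc.pow_left _).orderOf_mul_eq_mul_orderOf_of_coprime (by
    rw [hGo, hXo]; exact Nat.coprime_two_right.mpr hM), hGo, hXo, mul_comm]

end CfsgLib.SpectrumPowers
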