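/-
Element orders of direct powers absorbing an elementary abelian 2-group.
-/
import Mathlib

namespace CfsgLib.SpectrumPowers

theorem absorb_two {G : Type*} [Group G] [Finite G] (m : ℕ) {u c d : ℕ}
    (hdich : ∀ g : G, Odd (orderOf g) →
      (∃ g' : G, orderOf g' = 2 * orderOf g) ∨ orderOf g ∣ u ∨ orderOf g ∣ c ∨ orderOf g ∣ d)
    {ξ U τ σ : G} (hξ : orderOf ξ = 2) (hU : u ∣ orderOf U) (hτ : c ∣ orderOf τ) (hσ : d ∣ orderOf σ)
    (heven : 2 ∣ c ∨ 2 ∣ d) {P : Prop} (hsecond : P → ∃ x : G, 2 * u ∣ orderOf x) :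
    Set.range (orderOf : G × G × G × Multiplicative (Fin m → ZMod 2) → ℕ) =
      Set.range (orderOf : G × G × G → ℕ) ∧
    (P → Set.range (orderOf : G × G × Multiplicative (Fin m → ZMod 2) → ℕ) =
      Set.range (orderOf : G × G → ℕ)) := by
  classical
  have hpow : ∀ (g : G) (s : ℕ), s ∣ orderOf g → ∃ g' : G, orderOf g' = s := fun g s hs =>
    ⟨g ^ (orderOf g / s), orderOf_pow_orderOf_div (orderOf_pos g).ne' hs⟩
  have hodd2 : ∀ x : ℕ, Odd x → Nat.Coprime 2 x := fun x hx => Nat.coprime_two_left.mpr hx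
  have hlcm2 : ∀ x : ℕ, Odd x → Nat.lcm x 2 = 2 * x := fun x hx => by
    rw [Nat.lcm_comm, (hodd2 x hx).lcm_eq_mul]
  have hz : ∀ z : Multiplicative (Fin m → ZMod 2), orderOf z = 1 ∨ orderOf z = 2 := by
    intro z
    refine (Nat.dvd_prime Nat.prime_two).mp (orderOf_dvd_of_pow_eq_one ?_)
    rw [← ofAdd_toAdd z, ← ofAdd_nsmul, show 2 • Multiplicative.toAdd z = 0 from funext fun i => by
      rw [Pi.smul_apply, nsmul_eq_mul, ZMod.natCast_self, zero_mul, Pi.zero_apply], ofAdd_zero]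
  have htwo : ∀ (c : ℕ) (τ : G), 2 ∣ c → c ∣ orderOf τ → ∀ x, Odd x → x ∣ c → ∃ g, orderOf g = 2 * x :=
    fun c τ h2 hτ x hx hxc => hpow τ _ (((hodd2 x hx).mul_dvd_of_dvd_of_dvd h2 hxc).trans hτ)
  have hmono : ∀ {a b c d : ℕ}, a ∣ c → b ∣ d → Nat.lcm a b ∣ Nat.lcm c d := fun h h' =>
    Nat.lcm_dvd (h.trans (Nat.dvd_lcm_left _ _)) (h'.trans (Nat.dvd_lcm_right _ _))
  refine ⟨Set.Subset.antisymm ?_ ?_, fun hpj => Set.Subset.antisymm ?_ ?_⟩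
  · rintro _ ⟨⟨g₁, g₂, g₃, z⟩, rfl⟩
    simp only [Prod.orderOf]
    rcases hz z with hz1 | hz2
    · exact ⟨(g₁, g₂, g₃), by simp [Prod.orderOf, hz1]⟩
    rw [hz2]
    set L := Nat.lcm (orderOf g₁) (Nat.lcm (orderOf g₂) (orderOf g₃)) with hL
    have htot : Nat.lcm (orderOf g₁) (Nat.lcm (orderOf g₂) (Nat.lcm (orderOf g₃) 2)) = Nat.lcm L 2 := by
      simp [hL, Nat.lcm_assoc]
    rw [htot]
    rcases Nat.even_or_odd L with he | ho
    · exact ⟨(g₁, g₂, g₃), by simp only [Prod.orderOf]; rw [Nat.lcm_eq_left (even_iff_two_dvd.mp he)]⟩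
    rw [hlcm2 L ho]
    have d1 : orderOf g₁ ∣ L := Nat.dvd_lcm_left _ _
    have d2 : orderOf g₂ ∣ L := (Nat.dvd_lcm_left _ _).trans (Nat.dvd_lcm_right _ _)
    have d3 : orderOf g₃ ∣ L := (Nat.dvd_lcm_right _ _).trans (Nat.dvd_lcm_right _ _)
    have hfin : ∀ a b e : ℕ, a ∣ 2 * L → b ∣ 2 * L → e ∣ 2 * L → L ∣ Nat.lcm a (Nat.lcm b e) →
        2 ∣ Nat.lcm a (Nat.lcm b e) → Nat.lcm a (Nat.lcm b e) = 2 * L := fun a b e ha hb he hL2 h2 =>
      Nat.dvd_antisymm (Nat.lcm_dvd ha (Nat.lcm_dvd hb he)) ((hodd2 L ho).mul_dvd_of_dvd_of_dvd h2 hL2)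
    rcases hdich g₁ (ho.of_dvd_nat d1) with ⟨g', hg'⟩ | e1
    · refine ⟨(g', g₂, g₃), ?_⟩
      simp only [Prod.orderOf]
      refine hfin _ _ _ (hg' ▸ Nat.mul_dvd_mul_left 2 d1) (d2.trans (dvd_mul_left _ _)) (d3.trans (dvd_mul_left _ _)) ?_ ?_
      · rw [hg']; exact hmono (dvd_mul_left _ _) dvd_rfl
      · rw [hg']; exact (dvd_mul_right 2 _).trans (Nat.dvd_lcm_left _ _)
    rcases hdich g₂ (ho.of_dvd_nat d2) with ⟨g', hg'⟩ | e2
    · refine ⟨(g₁, g', g₃), ?_⟩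
      simp only [Prod.orderOf]
      refine hfin _ _ _ (d1.trans (dvd_mul_left _ _)) (hg' ▸ Nat.mul_dvd_mul_left 2 d2) (d3.trans (dvd_mul_left _ _)) ?_ ?_
      · rw [hg']; exact hmono dvd_rfl (hmono (dvd_mul_left _ _) dvd_rfl)
      · rw [hg']; exact ((dvd_mul_right 2 _).trans (Nat.dvd_lcm_left _ _)).trans (Nat.dvd_lcm_right _ _)
    rcases hdich g₃ (ho.of_dvd_nat d3) with ⟨g', hg'⟩ | e3
    · refine ⟨(g₁, g₂, g'), ?_⟩
      simp only [Prod.orderOf]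
      refine hfin _ _ _ (d1.trans (dvd_mul_left _ _)) (d2.trans (dvd_mul_left _ _)) (hg' ▸ Nat.mul_dvd_mul_left 2 d3) ?_ ?_
      · rw [hg']; exact hmono dvd_rfl (hmono dvd_rfl (dvd_mul_left _ _))
      · rw [hg']; exact ((dvd_mul_right 2 _).trans (Nat.dvd_lcm_right _ _)).trans (Nat.dvd_lcm_right _ _)
    set x := Nat.gcd L u with hx
    set y := Nat.gcd L c with hy
    set w := Nat.gcd L d with hw
    have hsub : L ∣ Nat.lcm x (Nat.lcm y w) := by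
      have key : ∀ o, o ∣ L → (o ∣ u ∨ o ∣ c ∨ o ∣ d) → o ∣ Nat.lcm x (Nat.lcm y w) := fun o hoL h => by
        rcases h with h | h | h
        · exact (Nat.dvd_gcd hoL h).trans (Nat.dvd_lcm_left _ _)
        · exact ((Nat.dvd_gcd hoL h).trans (Nat.dvd_lcm_left _ _)).trans (Nat.dvd_lcm_right _ _)
        · exact ((Nat.dvd_gcd hoL h).trans (Nat.dvd_lcm_right _ _)).trans (Nat.dvd_lcm_right _ _)
      exact Nat.lcm_dvd (key _ d1 e1) (Nat.lcm_dvd (key _ d2 e2) (key _ d3 e3))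
    obtain ⟨gx, hgx⟩ := hpow U x ((Nat.gcd_dvd_right _ _).trans hU)
    have hxL : x ∣ L := Nat.gcd_dvd_left _ _
    have hyL : y ∣ L := Nat.gcd_dvd_left _ _
    have hwL : w ∣ L := Nat.gcd_dvd_left _ _
    rcases heven with h2 | h2
    · obtain ⟨gy, hgy⟩ := htwo c τ h2 hτ y (ho.of_dvd_nat hyL) (Nat.gcd_dvd_right _ _)
      obtain ⟨gw, hgw⟩ := hpow σ w ((Nat.gcd_dvd_right _ _).trans hσ)
      refine ⟨(gx, gy, gw), ?_⟩
      simp only [Prod.orderOf]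
      refine hfin _ _ _ (hgx ▸ hxL.trans (dvd_mul_left _ _)) (hgy ▸ Nat.mul_dvd_mul_left 2 hyL)
        (hgw ▸ hwL.trans (dvd_mul_left _ _)) ?_ ?_
      · rw [hgx, hgy, hgw]
        exact hsub.trans (hmono dvd_rfl (hmono (dvd_mul_left _ _) dvd_rfl))
      · rw [hgy]; exact ((dvd_mul_right 2 _).trans (Nat.dvd_lcm_left _ _)).trans (Nat.dvd_lcm_right _ _)
    · obtain ⟨gw, hgw⟩ := htwo d σ h2 hσ w (ho.of_dvd_nat hwL) (Nat.gcd_dvd_right _ _)
      obtain ⟨gy, hgy⟩ := hpow τ y ((Nat.gcd_dvd_right _ _).trans hτ)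
      refine ⟨(gx, gy, gw), ?_⟩
      simp only [Prod.orderOf]
      refine hfin _ _ _ (hgx ▸ hxL.trans (dvd_mul_left _ _)) (hgy ▸ hyL.trans (dvd_mul_left _ _))
        (hgw ▸ Nat.mul_dvd_mul_left 2 hwL) ?_ ?_
      · rw [hgx, hgy, hgw]
        exact hsub.trans (hmono dvd_rfl (hmono dvd_rfl (dvd_mul_left _ _)))
      · rw [hgw]; exact ((dvd_mul_right 2 _).trans (Nat.dvd_lcm_right _ _)).trans (Nat.dvd_lcm_right _ _)
  · rintro _ ⟨⟨g₁, g₂, g₃⟩, rfl⟩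
    exact ⟨(g₁, g₂, g₃, 1), by simp [Prod.orderOf]⟩
  · rintro _ ⟨⟨g₁, g₂, z⟩, rfl⟩
    simp only [Prod.orderOf]
    rcases hz z with hz1 | hz2
    · exact ⟨(g₁, g₂), by simp [Prod.orderOf, hz1]⟩
    rw [hz2, ← Nat.lcm_assoc]
    set L := Nat.lcm (orderOf g₁) (orderOf g₂) with hL
    rcases Nat.even_or_odd L with he | ho
    · exact ⟨(g₁, g₂), by simp only [Prod.orderOf]; rw [Nat.lcm_eq_left (even_iff_two_dvd.mp he)]⟩
    rw [hlcm2 L ho]
    have d1 : orderOf g₁ ∣ L := Nat.dvd_lcm_left _ _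
    have d2 : orderOf g₂ ∣ L := Nat.dvd_lcm_right _ _
    have hfin : ∀ a b : ℕ, a ∣ 2 * L → b ∣ 2 * L → L ∣ Nat.lcm a b → 2 ∣ Nat.lcm a b →
        Nat.lcm a b = 2 * L := fun a b ha hb hL2 h2 =>
      Nat.dvd_antisymm (Nat.lcm_dvd ha hb) ((hodd2 L ho).mul_dvd_of_dvd_of_dvd h2 hL2)
    rcases hdich g₁ (ho.of_dvd_nat d1) with ⟨g', hg'⟩ | e1
    · refine ⟨(g', g₂), ?_⟩
      simp only [Prod.orderOf]
      refine hfin _ _ (hg' ▸ Nat.mul_dvd_mul_left 2 d1) (d2.trans (dvd_mul_left _ _)) ?_ ?_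
      · rw [hg']; exact hmono (dvd_mul_left _ _) dvd_rfl
      · rw [hg']; exact (dvd_mul_right 2 _).trans (Nat.dvd_lcm_left _ _)
    rcases hdich g₂ (ho.of_dvd_nat d2) with ⟨g', hg'⟩ | e2
    · refine ⟨(g₁, g'), ?_⟩
      simp only [Prod.orderOf]
      refine hfin _ _ (d1.trans (dvd_mul_left _ _)) (hg' ▸ Nat.mul_dvd_mul_left 2 d2) ?_ ?_
      · rw [hg']; exact hmono dvd_rfl (dvd_mul_left _ _)
      · rw [hg']; exact (dvd_mul_right 2 _).trans (Nat.dvd_lcm_right _ _)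
    -- two target classes suffice
    obtain ⟨a, b, A, B, hab, hA, hB, hh⟩ : ∃ (a b : ℕ) (A B : G), L ∣ Nat.lcm (Nat.gcd L a) (Nat.gcd L b) ∧
        a ∣ orderOf A ∧ b ∣ orderOf B ∧ (2 * Nat.gcd L a ∣ orderOf A ∨ 2 * Nat.gcd L b ∣ orderOf B) := by
      obtain ⟨x, hx⟩ := hsecond hpj
      have hgd : ∀ a (A : G), 2 ∣ a → a ∣ orderOf A → 2 * Nat.gcd L a ∣ orderOf A := fun a A h2 hA =>
        ((hodd2 _ (ho.of_dvd_nat (Nat.gcd_dvd_left _ _))).mul_dvd_of_dvd_of_dvd h2 (Nat.gcd_dvd_right _ _)).trans hA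
      have hxu : u ∣ orderOf x := (dvd_mul_left _ _).trans hx
      have hxu' : 2 * Nat.gcd L u ∣ orderOf x := (Nat.mul_dvd_mul_left 2 (Nat.gcd_dvd_right _ _)).trans hx
      have key : ∀ a b, (∀ o, o = orderOf g₁ ∨ o = orderOf g₂ → o ∣ a ∨ o ∣ b) →
          L ∣ Nat.lcm (Nat.gcd L a) (Nat.gcd L b) := fun a b h => by
        refine Nat.lcm_dvd ?_ ?_
        · rcases h _ (Or.inl rfl) with h | h
          · exact (Nat.dvd_gcd d1 h).trans (Nat.dvd_lcm_left _ _)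
          · exact (Nat.dvd_gcd d1 h).trans (Nat.dvd_lcm_right _ _)
        · rcases h _ (Or.inr rfl) with h | h
          · exact (Nat.dvd_gcd d2 h).trans (Nat.dvd_lcm_left _ _)
          · exact (Nat.dvd_gcd d2 h).trans (Nat.dvd_lcm_right _ _)
      rcases e1 with e1 | e1 | e1 <;> rcases e2 with e2 | e2 | e2
      case inr.inl.inr.inr | inr.inr.inr.inl =>
        refine ⟨c, d, τ, σ, key c d fun o h => ?_, hτ, hσ, heven.imp (fun h => hgd c τ h hτ) (fun h => hgd d σ h hσ)⟩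
        rcases h with rfl | rfl <;> tauto
      case inl.inr.inl | inr.inl.inl | inl.inl | inr.inl.inr.inl =>
        refine ⟨u, c, x, τ, key u c fun o h => ?_, hxu, hτ, Or.inl hxu'⟩
        rcases h with rfl | rfl <;> tauto
      all_goals
        refine ⟨u, d, x, σ, key u d fun o h => ?_, hxu, hσ, Or.inl hxu'⟩
        rcases h with rfl | rfl <;> tauto
    have hgL : ∀ a, Nat.gcd L a ∣ L := fun a => Nat.gcd_dvd_left _ _
    rcases hh with hh | hh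
    · obtain ⟨ga, hga⟩ := hpow A _ hh
      obtain ⟨gb, hgb⟩ := hpow B _ ((Nat.gcd_dvd_right L b).trans hB)
      refine ⟨(ga, gb), ?_⟩
      simp only [Prod.orderOf]
      refine hfin _ _ (hga ▸ Nat.mul_dvd_mul_left 2 (hgL a)) (hgb ▸ (hgL b).trans (dvd_mul_left _ _)) ?_ ?_
      · rw [hga, hgb]; exact hab.trans (hmono (dvd_mul_left _ _) dvd_rfl)
      · rw [hga]; exact (dvd_mul_right 2 _).trans (Nat.dvd_lcm_left _ _)
    · obtain ⟨gb, hgb⟩ := hpow B _ hh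
      obtain ⟨ga, hga⟩ := hpow A _ ((Nat.gcd_dvd_right L a).trans hA)
      refine ⟨(ga, gb), ?_⟩
      simp only [Prod.orderOf]
      refine hfin _ _ (hga ▸ (hgL a).trans (dvd_mul_left _ _)) (hgb ▸ Nat.mul_dvd_mul_left 2 (hgL b)) ?_ ?_
      · rw [hga, hgb]; exact hab.trans (hmono dvd_rfl (dvd_mul_left _ _))
      · rw [hgb]; exact (dvd_mul_right 2 _).trans (Nat.dvd_lcm_right _ _)
  · rintro _ ⟨⟨g₁, g₂⟩, rfl⟩
    exact ⟨(g₁, g₂, 1), by simp [Prod.orderOf]⟩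

end CfsgLib.SpectrumPowers
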