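/-
Element orders of powers of projective symplectic groups.
-/
import Cfsg.Agent.Lib.SpectrumPowers.SympWitness
import Cfsg.Agent.Lib.SpectrumPowers.AbsorbTwo

set_option maxHeartbeats 1000000

namespace CfsgLib.SpectrumPowers

open Polynomial Matrix

variable {F : Type*} [Field F] [Fintype F] {n : ℕ}

theorem coprime_of_dvd_pow_pm {p a j M : ℕ} (hp : p.Prime) (ha : 1 ≤ a) (hj : 0 < j)
    (h : M ∣ (p ^ a) ^ j + 1 ∨ M ∣ (p ^ a) ^ j - 1) : p.Coprime M := by
  refine hp.coprime_iff_not_dvd.mpr fun hd => ?_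
  have h1 : p ∣ (p ^ a) ^ j := dvd_pow (dvd_pow_self p (by omega)) hj.ne'
  rcases h with h | h
  · exact hp.not_dvd_one ((Nat.dvd_add_right h1).mp (hd.trans h))
  · have h2 := Nat.one_le_pow j (p ^ a) (pow_pos hp.pos a)
    exact hp.not_dvd_one ((Nat.dvd_add_right (hd.trans h)).mp (by rwa [Nat.sub_add_cancel h2]))

theorem absorb_symplectic (p a m : ℕ) (hp : p.Prime) (ha : 1 ≤ a) (hF : Fintype.card F = p ^ a)
    (hodd : Odd (Fintype.card F)) (hn : 2 ≤ n) :
    Set.range (orderOf : Cfsg.PSp n F × Cfsg.PSp n F × Cfsg.PSp n F × Multiplicative (Fin m → ZMod 2) → ℕ) =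
      Set.range (orderOf : Cfsg.PSp n F × Cfsg.PSp n F × Cfsg.PSp n F → ℕ) ∧
    ((¬ ∃ j : ℕ, 2 * n - 1 = p ^ j) →
      Set.range (orderOf : Cfsg.PSp n F × Cfsg.PSp n F × Multiplicative (Fin m → ZMod 2) → ℕ) =
        Set.range (orderOf : Cfsg.PSp n F × Cfsg.PSp n F → ℕ)) := by
  classical
  haveI := Fact.mk hp
  haveI : CharP F p := charP_of_card_eq_prime_pow hF
  set q := Fintype.card F with hq
  have hpodd : Odd p := by
    rw [hF] at hodd
    exact (Nat.odd_pow_iff (by omega)).mp hodd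
  have hF2 : (2 : F) ≠ 0 := by
    intro h
    have h2 : ((2 : ℕ) : F) = 0 := by exact_mod_cast h
    rw [CharP.cast_eq_zero_iff F p, Nat.prime_dvd_prime_iff_eq hp Nat.prime_two] at h2
    subst h2
    exact (by decide : ¬ Odd 2) hpodd
  set I := Nat.clog p (n + n)
  have hqn : Odd (q ^ n) := hodd.pow
  obtain ⟨d, hd⟩ := hqn
  set c := d + 1
  have hc : q ^ n + 1 = 2 * c := by omega
  have hd' : q ^ n - 1 = 2 * d := by omega
  have hd0 : 0 < d := by
    have : 1 < q ^ n := Nat.one_lt_pow (by omega) (Fintype.one_lt_card (α := F))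
    omega
  -- witnesses
  have hscale : ∀ (g : Matrix.symplecticGroup (Fin n) F) (x : ℕ), 2 * x ∣ orderOf g →
      x ∣ orderOf (QuotientGroup.mk g : Cfsg.PSp n F) := fun g x h =>
    Nat.dvd_of_mul_dvd_mul_left two_pos (h.trans (dvd_two_mul_orderOf_mk (by omega) g))
  obtain ⟨gp, hgp⟩ := exists_torus p a hF ha (j := n) (N := 2 * c) (by omega) (by omega) (Or.inl hc.symm.dvd)
  obtain ⟨gm, hgm⟩ := exists_torus p a hF ha (j := n) (N := 2 * d) (by omega) (by omega) (Or.inr hd'.symm.dvd)
  obtain ⟨gu, hgu⟩ := exists_regular_unipotent_Sp (F := F) p (k := n) (by omega)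
  obtain ⟨ξ, hξ⟩ : ∃ ξ : Cfsg.PSp n F, orderOf ξ = 2 := by
    obtain ⟨l, rfl⟩ : ∃ l, n = 1 + l := ⟨n - 1, by omega⟩
    obtain ⟨ξ, hξ⟩ := exists_double hF2 one_pos (show 0 < l by omega)
      (1 : Matrix.symplecticGroup (Fin 1) F) (1 : Matrix.symplecticGroup (Fin l) F) odd_one (one_dvd _)
    exact ⟨ξ, hξ⟩
  refine absorb_two m (u := p ^ I) (c := c) (d := d) (fun G hG => ?_) hξ
    (odd_dvd_orderOf_mk (by omega) gu hpodd.pow hgu.symm.dvd) (hscale gp c hgp) (hscale gm d hgm) (by omega)
    (P := ¬ ∃ j : ℕ, 2 * n - 1 = p ^ j) fun hnp => ?_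
  · obtain ⟨A0, rfl⟩ := QuotientGroup.mk_surjective G
    set o := orderOf (QuotientGroup.mk A0 : Cfsg.PSp n F) with ho
    obtain ⟨A, hA, hAo⟩ : ∃ A : Matrix.symplecticGroup (Fin n) F,
        (QuotientGroup.mk A : Cfsg.PSp n F) = QuotientGroup.mk A0 ∧ orderOf A = o := by
      refine ⟨A0 ^ (o + 1), by rw [QuotientGroup.mk_pow, pow_succ, ho, pow_orderOf_eq_one, one_mul], ?_⟩
      have hmk : (QuotientGroup.mk (A0 ^ (o + 1)) : Cfsg.PSp n F) = QuotientGroup.mk A0 := by
        rw [QuotientGroup.mk_pow, pow_succ, ho, pow_orderOf_eq_one, one_mul]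
      refine Nat.dvd_antisymm (orderOf_dvd_of_pow_eq_one ?_) ?_
      · obtain ⟨k, hk⟩ := hG
        obtain ⟨t, ht, ht2⟩ := (mk_eq_one_iff_Sp (by omega) (A0 ^ o)).mp (by
          rw [QuotientGroup.mk_pow, ho, pow_orderOf_eq_one])
        rw [← pow_mul, mul_comm, pow_mul, show o + 1 = 2 * (k + 1) by omega, pow_mul]
        have : (A0 ^ o) ^ 2 = 1 := Subtype.ext (by rw [SubmonoidClass.coe_pow, ht, ← map_pow, ht2, map_one]; rfl)
        rw [this, one_pow]
      · conv_lhs => rw [ho, ← hmk]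
        exact orderOf_map_dvd (QuotientGroup.mk' _) _
    by_cases hind : ∀ e : Matrix (Fin n ⊕ Fin n) (Fin n ⊕ Fin n) F, e * e = e → Commute e A.1 →
        e * Matrix.J (Fin n) F = Matrix.J (Fin n) F * eᵀ → e = 0 ∨ e = 1
    · rcases symp_dichotomy (by omega) p a hF ha A (hAo.symm ▸ hG) hind with h | ⟨j, e, M, hje, hMo, hM, h⟩
      · exact Or.inr (Or.inl (hAo ▸ h))
      rw [hAo] at h
      by_cases he : e = 1
      · subst he
        rw [mul_one] at hje
        subst hje
        rw [Nat.clog_one_right, pow_zero, one_mul] at h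
        rcases hM with hM | hM
        · exact Or.inr (Or.inr (Or.inl ((Nat.coprime_two_right.mpr hG).dvd_of_dvd_mul_left
            (h.trans (hc ▸ hM)))))
        · exact Or.inr (Or.inr (Or.inr ((Nat.coprime_two_right.mpr hG).dvd_of_dvd_mul_left
            (h.trans (hd' ▸ hM)))))
      · left
        have hj0 : 0 < j := Nat.pos_of_ne_zero fun h0 => by subst h0; omega
        have he2 : 2 ≤ e := by
          rcases e with _ | _ | e <;> first | omega | (exact absurd rfl he)
        obtain ⟨l, rfl⟩ : ∃ l, n = j + l := ⟨n - j, by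
          have : j * 1 ≤ j * e := Nat.mul_le_mul_left j (by omega)
          omega⟩
        have hel : e ≤ l + l := by
          obtain ⟨e', rfl⟩ : ∃ e', e = e' + 1 := ⟨e - 1, by omega⟩
          have h1 : e' ≤ j * e' := Nat.le_mul_of_pos_left e' hj0
          rw [mul_add, mul_one] at hje
          omega
        obtain ⟨x, hx⟩ := exists_torus p a hF ha hj0 hMo.pos hM
        obtain ⟨y, hy⟩ := exists_regular_unipotent_Sp (F := F) p (k := l) (by omega)
        have hlcm : p ^ Nat.clog p e * M ∣ Nat.lcm (orderOf x) (orderOf y) := by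
          have hcp : (p ^ Nat.clog p e).Coprime M := (coprime_of_dvd_pow_pm hp ha hj0 (hF ▸ hM)).pow_left _
          refine hcp.mul_dvd_of_dvd_of_dvd ?_ (hx.trans (Nat.dvd_lcm_left _ _))
          rw [hy]
          exact (pow_dvd_pow p (Nat.clog_mono_right p hel)).trans (Nat.dvd_lcm_right _ _)
        exact exists_double hF2 hj0 (show 0 < l by omega) x y hG (h.trans hlcm)
    · left
      push Not at hind
      obtain ⟨e, h1, h2, h3, h4, h5⟩ := hind
      set X0 : Matrix (Fin n ⊕ Fin n) (Fin n ⊕ Fin n) F := 1 - (2 : F) • e with hX0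
      have hsq : X0 * X0 = 1 := by
        simp only [hX0, sub_mul, mul_sub, Matrix.smul_mul, Matrix.mul_smul, h1, smul_smul, Matrix.one_mul,
          Matrix.mul_one, two_mul, add_smul]
        abel
      let X : Matrix.symplecticGroup (Fin n) F := ⟨X0, SymplecticGroup.mem_iff.mpr (by
        rw [show X0 * Matrix.J (Fin n) F = Matrix.J (Fin n) F * X0ᵀ by
          rw [hX0, transpose_sub, transpose_one, transpose_smul, sub_mul, mul_sub, one_mul, mul_one,
            Matrix.smul_mul, Matrix.mul_smul, h3],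
          mul_assoc, ← transpose_mul, hsq, transpose_one, mul_one])⟩
      have hX2 : (QuotientGroup.mk X : Cfsg.PSp n F) ^ 2 = 1 := by
        rw [← QuotientGroup.mk_pow, show X ^ 2 = 1 from Subtype.ext (by rw [SubmonoidClass.coe_pow, pow_two]; exact hsq)]
        rfl
      have hX1 : (QuotientGroup.mk X : Cfsg.PSp n F) ≠ 1 := by
        intro hx
        obtain ⟨t, ht, -⟩ := (mk_eq_one_iff_Sp (by omega) X).mp hx
        have ht' : 1 - (2 : F) • e = t • 1 := by
          rw [← hX0, Matrix.smul_one_eq_diagonal]; exact ht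
        have he : e = ((1 - t) / 2) • 1 := by
          rw [div_eq_inv_mul, ← smul_smul, sub_smul, one_smul, ← ht', sub_sub_cancel, smul_smul,
            inv_mul_cancel₀ hF2, one_smul]
        have hs : ((1 - t) / 2) * ((1 - t) / 2) = (1 - t) / 2 := by
          have h6 := congrFun (congrFun h1 (Sum.inl ⟨0, by omega⟩)) (Sum.inl ⟨0, by omega⟩)
          rw [he, Matrix.smul_mul, Matrix.one_mul, smul_smul] at h6
          simpa using h6
        rcases mul_right_eq_self₀.mp hs with h' | h'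
        · exact h5 (by rw [he, h', one_smul])
        · exact h4 (by rw [he, h', zero_smul])
      have hXA : Commute (QuotientGroup.mk A0 : Cfsg.PSp n F) (QuotientGroup.mk X) := by
        rw [← hA]
        show _ * _ = _ * _
        rw [← QuotientGroup.mk_mul, ← QuotientGroup.mk_mul]
        congr 1
        apply Subtype.ext
        show A.1 * (1 - (2 : F) • e) = (1 - (2 : F) • e) * A.1
        exact ((Commute.one_right A.1).sub_right ((h2.symm).smul_right (2 : F))).eq
      refine ⟨QuotientGroup.mk A0 * QuotientGroup.mk X, ?_⟩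
      rw [hXA.orderOf_mul_eq_mul_orderOf_of_coprime (by
        rw [orderOf_eq_prime hX2 hX1, ← ho]; exact Nat.coprime_two_right.mpr hG), orderOf_eq_prime hX2 hX1, ← ho,
        mul_comm]
  · obtain ⟨k, rfl⟩ : ∃ k, n = k + 1 := ⟨n - 1, by omega⟩
    obtain ⟨x, hx⟩ := exists_regular_unipotent_Sp (F := F) p (k := k) (by omega)
    obtain ⟨g', hg'⟩ := exists_double hF2 (show 0 < k by omega) one_pos x
      (1 : Matrix.symplecticGroup (Fin 1) F) (hpodd.pow (n := I)) (by
        rw [hx]
        refine (pow_dvd_pow p ?_).trans (Nat.dvd_lcm_left _ _)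
        refine (Nat.clog_le_iff_le_pow hp.one_lt).mpr ?_
        have h1 := Nat.le_pow_clog hp.one_lt (k + k)
        have h2 : p ^ Nat.clog p (k + k) ≠ k + k + 1 := fun h => hnp ⟨Nat.clog p (k + k), by omega⟩
        obtain ⟨r, hr⟩ := hpodd.pow (n := Nat.clog p (k + k))
        omega)
    exact ⟨g', hg'.symm.dvd⟩

end CfsgLib.SpectrumPowers
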